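import Cfsg.Agent.Lib.HigmanSL2.Four
import Cfsg.Agent.Lib.PSL2.TraceClasses
import Cfsg.Agent.Lib.PGroup.Frattini

/-!
Higman: if `G/Q ≅ SL(2, 2ⁿ)`, `n ≥ 2`, `Q` a normal 2-subgroup, and an element of order 3 of `G` acts
fixed-point-freely on `Q`, then `Q` is elementary abelian and, as `G`-module, a sum of natural modules.
-/

set_option autoImplicit false

namespace Cfsg.Agent.HigmanSL2

open Matrix Cfsg.Agent.PSL2
open scoped MatrixGroups commutatorElement

universe u v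

variable {F : Type v} [Field F] [Finite F]

omit [Finite F] in
theorem trace_of_pow_three (hF : (2 : F) = 0) {g : SL(2, F)} (h3 : g ^ 3 = 1) (h1 : g ≠ 1) :
    g 0 0 + g 1 1 = 1 := by
  have hinv : g * g = g⁻¹ := eq_inv_of_mul_eq_one_left (by rw [← h3, pow_three, mul_assoc])
  have e00 := congrArg (fun z : SL(2, F) => z 0 0) hinv
  have e01 := congrArg (fun z : SL(2, F) => z 0 1) hinv
  have e10 := congrArg (fun z : SL(2, F) => z 1 0) hinv
  have e11 := congrArg (fun z : SL(2, F) => z 1 1) hinv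
  simp only [mul00, mul01, mul10, mul11, inv00, inv01, inv10, inv11] at e00 e01 e10 e11
  by_cases hb : g 0 1 = 0
  · by_cases hc : g 1 0 = 0
    · have hdet := det_eq g
      rw [hb, hc] at hdet e00
      have ha3 : (g 0 0 - 1) * (g 0 0 * g 0 0 + g 0 0 + 1) = 0 := by
        linear_combination (g 0 0) * e00 + hdet
      rcases mul_eq_zero.1 ha3 with h | h
      · exfalso
        apply h1
        have ha : g 0 0 = 1 := by linear_combination h
        have hd : g 1 1 = 1 := by rw [ha] at hdet; linear_combination hdet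
        apply ext2 <;> simp [ha, hd, hb, hc]
      · linear_combination h - e00 - hF
    · apply mul_left_cancel₀ hc
      linear_combination e10 - g 1 0 * hF
  · apply mul_left_cancel₀ hb
    linear_combination e01 - g 0 1 * hF

theorem traceOne_of_fpf {M : Type*} [AddCommGroup M] (ρ : SL(2, F) →* AddMonoid.End M) (hF : (2 : F) = 0)
    (x : SL(2, F)) (hx : x ^ 3 = 1) (hx1 : x ≠ 1) (hfpf : ∀ m : M, ρ x m = m → m = 0) : TraceOne ρ := by
  haveI := Fintype.ofFinite F
  have hX : ρ x * ρ x + ρ x + 1 = 0 := by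
    refine AddMonoidHom.ext fun m => hfpf _ ?_
    have h : ρ x * (ρ x * ρ x + ρ x + 1) = ρ x * ρ x + ρ x + 1 := by
      have h3 : ρ x * (ρ x * ρ x) = 1 := by rw [← map_mul, ← map_mul, ← pow_three, hx, map_one]
      rw [mul_add, mul_add, h3, mul_one]; abel
    exact congrArg (fun φ : AddMonoid.End M => φ m) h
  intro g hg
  have htr : ∀ {h : SL(2, F)}, h 0 0 + h 1 1 = 1 →
      Matrix.trace (h : Matrix (Fin 2) (Fin 2) F) = 1 := fun hh => by rw [Matrix.trace_fin_two]; exact hh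
  have h4 : ∀ {h : SL(2, F)}, h 0 0 + h 1 1 = 1 →
      Matrix.trace (h : Matrix (Fin 2) (Fin 2) F) ^ 2 ≠ 4 := fun hh => by
    rw [htr hh, one_pow, show (4 : F) = 2 * 2 by norm_num, hF, mul_zero]
    exact one_ne_zero
  have hxt := trace_of_pow_three hF hx hx1
  obtain ⟨c, hc⟩ := isConj_iff.1 (TraceClasses.isConj_of_trace x g
    (TraceClasses.not_isScalar'_of_trace x (h4 hxt)) (TraceClasses.not_isScalar'_of_trace g (h4 hg))
    ((htr hxt).trans (htr hg).symm) (h4 hxt))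
  have hi : ρ c⁻¹ * ρ c = 1 := by rw [← map_mul, inv_mul_cancel, map_one]
  have hj : ρ c * ρ c⁻¹ = 1 := by rw [← map_mul, mul_inv_cancel, map_one]
  calc ρ g * ρ g + ρ g + 1 = ρ c * (ρ x * ρ x + ρ x + 1) * ρ c⁻¹ := by
        rw [← hc, map_mul, map_mul]
        simp only [mul_add, add_mul, mul_one, hj, mul_assoc]
        rw [← mul_assoc (ρ c⁻¹) (ρ c), hi, one_mul]
    _ = 0 := by rw [hX, mul_zero, zero_mul]

variable {G : Type u} [Group G]

/-- Automorphisms of an abelian group as additive endomorphisms. -/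
def endHom (H : Type*) [CommGroup H] : MulAut H →* AddMonoid.End (Additive H) where
  toFun φ := MonoidHom.toAdditive φ.toMonoidHom
  map_one' := rfl
  map_mul' _ _ := rfl

/-- The representation of `SL(2, F)` on an abelian section. -/
def secRep (Q : Subgroup G) [Q.Normal] (e : G ⧸ Q ≃* SL(2, F)) {H : Type*} [CommGroup H]
    (c : G →* MulAut H) (hc : Q ≤ c.ker) : SL(2, F) →* AddMonoid.End (Additive H) :=
  (endHom H).comp ((QuotientGroup.lift Q c hc).comp e.symm.toMonoidHom)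

omit [Finite F] in
theorem secRep_apply (Q : Subgroup G) [Q.Normal] (e : G ⧸ Q ≃* SL(2, F)) {H : Type*} [CommGroup H]
    (c : G →* MulAut H) (hc : Q ≤ c.ker) (g : G) (m : Additive H) :
    secRep Q e c hc (e (g : G ⧸ Q)) m = Additive.ofMul (c g (Additive.toMul m)) := by
  simp [secRep, endHom, MonoidHom.toAdditive]
  rfl

omit [Finite F] in
theorem image_ne_one {Q : Subgroup G} [Q.Normal] (hQ : IsPGroup 2 ↥Q) (e : G ⧸ Q ≃* SL(2, F)) {x : G}
    (hx : orderOf x = 3) : e (x : G ⧸ Q) ^ 3 = 1 ∧ e (x : G ⧸ Q) ≠ 1 := by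
  refine ⟨by rw [← map_pow, ← QuotientGroup.mk_pow, ← hx, pow_orderOf_eq_one, QuotientGroup.mk_one,
    map_one], fun h => ?_⟩
  have hxQ : x ∈ Q := by
    rwa [map_eq_one_iff e e.injective, QuotientGroup.eq_one_iff] at h
  obtain ⟨k, hk⟩ := hQ ⟨x, hxQ⟩
  have hd : 3 ∣ 2 ^ k := hx ▸ orderOf_dvd_of_pow_eq_one (by simpa using congrArg Subtype.val hk)
  have := Nat.Prime.dvd_of_dvd_pow (by norm_num) hd
  norm_num at this

theorem traceOne_secRep {Q : Subgroup G} [Q.Normal] (hQ : IsPGroup 2 ↥Q) (e : G ⧸ Q ≃* SL(2, F))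
    (hF : (2 : F) = 0) {x : G} (hx : orderOf x = 3) {H : Type*} [CommGroup H]
    (c : G →* MulAut H) (hc : Q ≤ c.ker) (hfpf : ∀ h : H, c x h = h → h = 1) :
    TraceOne (secRep Q e c hc) :=
  traceOne_of_fpf _ hF _ (image_ne_one hQ e hx).1 (image_ne_one hQ e hx).2 fun m hm => by
    rw [secRep_apply] at hm
    exact Additive.toMul.injective (hfpf _ (Additive.ofMul.injective hm))

omit [Finite F] in
theorem exists_scalar (hn : 4 ≤ Nat.card F) : ∃ a : F, a ≠ 0 ∧ a ≠ 1 := by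
  classical
  haveI := (Nat.finite_of_card_ne_zero (by omega : Nat.card F ≠ 0))
  haveI := Fintype.ofFinite F
  by_contra h
  push Not at h
  have hle : Fintype.card F ≤ ({0, 1} : Finset F).card := by
    rw [← Finset.card_univ]
    refine Finset.card_le_card fun a _ => ?_
    rcases eq_or_ne a 0 with ha | ha
    · simp [ha]
    · simp [h a ha]
  rw [Nat.card_eq_fintype_card] at hn
  have := Finset.card_le_two (a := (0 : F)) (b := 1)
  omega

theorem exists_minimal [Finite G] (K : Subgroup G) [K.Normal] (hK : K ≠ ⊥) :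
    ∃ N : Subgroup G, N.Normal ∧ N ≠ ⊥ ∧ N ≤ K ∧ ∀ M : Subgroup G, M.Normal → M ≤ N → M ≠ ⊥ → M = N := by
  obtain ⟨N, hNle, ⟨⟨hN1, hN2⟩, hmin⟩⟩ :=
    Finite.exists_le_minimal (p := fun N : Subgroup G => N.Normal ∧ N ≠ ⊥) ⟨‹K.Normal›, hK⟩
  exact ⟨N, hN1, hN2, hNle, fun M hM hMN hM1 => le_antisymm hMN (hmin ⟨hM, hM1⟩ hMN)⟩

theorem elementary_aux (n : ℕ) : ∀ {G : Type u} [Group G] [Finite G], Nat.card G = n →
    ∀ (Q : Subgroup G) [Q.Normal], IsPGroup 2 ↥Q → (2 : F) = 0 → 4 ≤ Nat.card F →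
      (G ⧸ Q ≃* SL(2, F)) → ∀ x : G, orderOf x = 3 → (∀ q ∈ Q, x * q * x⁻¹ = q → q = 1) →
        ∀ q ∈ Q, q * q = 1 := by
  induction n using Nat.strong_induction_on with
  | _ n ih =>
  intro G _ _ hn Q _ hQ hF hcard e x hx hfpf
  classical
  haveI : Fact (Nat.Prime 2) := ⟨Nat.prime_two⟩
  obtain ⟨a, ha0, ha1⟩ := exists_scalar hcard
  by_cases hall : ∀ q ∈ Q, q * q = 1
  · exact hall
  exfalso
  -- a minimal normal subgroup below the Frattini subgroup
  set Φ : Subgroup G := (frattini ↥Q).map Q.subtype with hΦdef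
  haveI hΦn : Φ.Normal := by rw [hΦdef]; infer_instance
  have hΦQ : Φ ≤ Q := Subgroup.map_subtype_le _
  have hsq : ∀ q : ↥Q, q * q ∈ frattini ↥Q := fun q => by
    rw [← pow_two]; exact Cfsg.Agent.PGroup.pow_mem_frattini hQ q
  have hΦ1 : Φ ≠ ⊥ := fun h => hall fun q hq => by
    have hm : q * q ∈ Φ := ⟨⟨q, hq⟩ * ⟨q, hq⟩, hsq _, rfl⟩
    rwa [h, Subgroup.mem_bot] at hm
  obtain ⟨N, hN, hN1, hNΦ, hmin⟩ := exists_minimal Φ hΦ1
  haveI := hN
  have hNQ : N ≤ Q := hNΦ.trans hΦQ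
  have hNc : N ≤ Subgroup.centralizer (Q : Set G) := by
    have hnt : Nontrivial ↥N := (Subgroup.nontrivial_iff_ne_bot N).2 hN1
    have hmeet : N ⊓ Subgroup.centralizer (Q : Set G) ≠ ⊥ := by
      have hM : (N.subgroupOf Q) ≠ ⊥ := fun h => hN1 (by
        rw [← le_bot_iff]
        intro y hy
        have hy' : (⟨y, hNQ hy⟩ : ↥Q) ∈ N.subgroupOf Q := hy
        rw [h, Subgroup.mem_bot] at hy'
        exact congrArg Subtype.val hy')
      obtain ⟨⟨z, hzN, hzc⟩, hz1⟩ := Subgroup.ne_bot_iff_exists_ne_one.1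
        (Cfsg.Agent.PGroup.inf_center_ne_bot hQ (N.subgroupOf Q) hM)
      replace hz1 : z ≠ 1 := fun h => hz1 (Subtype.ext h)
      exact fun h => hz1 (Subtype.ext (Subgroup.mem_bot.1 (h ▸
        (⟨hzN, fun q hq => congrArg Subtype.val (Subgroup.mem_center_iff.1 hzc ⟨q, hq⟩)⟩ :
          (z : G) ∈ N ⊓ Subgroup.centralizer (Q : Set G)))))
    rw [← hmin _ inferInstance inf_le_left hmeet]
    exact inf_le_right
  -- the quotient
  have hxN : ∀ q ∈ Q, x * q * x⁻¹ * q⁻¹ ∈ N → q ∈ N := by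
    intro q hq hc
    let θ : ↥N → ↥N := fun y => ⟨x * y * x⁻¹ * (y : G)⁻¹, N.mul_mem (hN.conj_mem _ y.2 x) (N.inv_mem y.2)⟩
    have hθ : Function.Injective θ := fun y y' h => by
      have h' : x * (y : G) * x⁻¹ * (y : G)⁻¹ = x * (y' : G) * x⁻¹ * (y' : G)⁻¹ := congrArg Subtype.val h
      have hcomm : (y' : G)⁻¹ * y = y * (y' : G)⁻¹ :=
        (Subgroup.mem_centralizer_iff.1 (hNc y.2) _ (Q.inv_mem (hNQ y'.2))).trans rfl
      have hfix : x * ((y' : G)⁻¹ * y) * x⁻¹ = (y' : G)⁻¹ * y := by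
        have e1 : x * (y : G) * x⁻¹ = x * (y' : G) * x⁻¹ * (y' : G)⁻¹ * y := by
          rw [← h']; group
        calc x * ((y' : G)⁻¹ * y) * x⁻¹ = (x * (y' : G) * x⁻¹)⁻¹ * (x * y * x⁻¹) := by group
          _ = _ := by rw [e1]; group
      have := hfpf _ (hNQ (N.mul_mem (N.inv_mem y'.2) y.2)) hfix
      exact Subtype.ext (inv_mul_eq_one.1 this).symm
    obtain ⟨y, hy⟩ := (Finite.injective_iff_surjective.1 hθ) ⟨_, hc⟩
    have hy' : x * (y : G) * x⁻¹ * (y : G)⁻¹ = x * q * x⁻¹ * q⁻¹ := congrArg Subtype.val hy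
    have hqy : q * (y : G) = y * q := Subgroup.mem_centralizer_iff.1 (hNc y.2) _ hq
    have hfix : x * ((y : G)⁻¹ * q) * x⁻¹ = (y : G)⁻¹ * q := by
      have e1 : x * q * x⁻¹ = x * (y : G) * x⁻¹ * (y : G)⁻¹ * q := by rw [hy']; group
      calc x * ((y : G)⁻¹ * q) * x⁻¹ = (x * (y : G) * x⁻¹)⁻¹ * (x * q * x⁻¹) := by group
        _ = _ := by rw [e1]; group
    rw [← inv_mul_eq_one.1 (hfpf _ (Q.mul_mem (Q.inv_mem (hNQ y.2)) hq) hfix)]
    exact y.2
  have hΦN : Φ = N := by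
    refine le_antisymm ?_ hNΦ
    set π := QuotientGroup.mk' N with hπ
    have hlt : Nat.card (G ⧸ N) < n := by
      rw [← hn, Subgroup.card_eq_card_quotient_mul_card_subgroup N]
      have h1 : 1 < Nat.card ↥N := (Subgroup.one_lt_card_iff_ne_bot N).2 hN1
      exact lt_mul_of_one_lt_right Nat.card_pos h1
    have hx' : orderOf (π x) = 3 := by
      haveI : Fact (Nat.Prime 3) := ⟨Nat.prime_three⟩
      refine orderOf_eq_prime (by rw [← map_pow, ← hx, pow_orderOf_eq_one, map_one]) fun h => ?_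
      have hxN' : x ∈ Q := hNQ ((QuotientGroup.eq_one_iff x).1 h)
      exact (image_ne_one hQ e hx).2 (by rw [(QuotientGroup.eq_one_iff x).2 hxN', map_one])
    haveI : (Q.map π).Normal := Subgroup.Normal.map inferInstance π (QuotientGroup.mk'_surjective N)
    have hsq' := ih _ hlt rfl (Q.map π) (hQ.map π) hF hcard
      ((QuotientGroup.quotientQuotientEquivQuotient N Q hNQ).trans e) (π x) hx' (fun y hy hfy => by
        obtain ⟨q, hq, rfl⟩ := hy
        refine (QuotientGroup.eq_one_iff q).2 (hxN q hq ?_)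
        rw [← QuotientGroup.eq_one_iff]
        simpa [hπ, mul_inv_eq_one] using hfy)
    have hfr : frattini ↥Q ≤ N.subgroupOf Q :=
      Cfsg.Agent.PGroup.frattini_le (p := 2) (Subgroup.commutator_le.2 fun a _ b _ => by
        have h1 : ∀ q ∈ Q, π q * π q = 1 := fun q hq => hsq' _ ⟨q, hq, rfl⟩
        have hinv : ∀ q ∈ Q, (π q)⁻¹ = π q := fun q hq => inv_eq_of_mul_eq_one_left (h1 q hq)
        show ((⁅a, b⁆ : ↥Q) : G) ∈ N
        rw [← QuotientGroup.eq_one_iff]
        show π ((a : G) * b * (a : G)⁻¹ * (b : G)⁻¹) = 1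
        rw [map_mul, map_mul, map_mul, map_inv, map_inv, hinv _ a.2, hinv _ b.2, mul_assoc, ← map_mul]
        exact h1 _ (Q.mul_mem a.2 b.2)) (fun a => by
        show ((a ^ 2 : ↥Q) : G) ∈ N
        rw [← QuotientGroup.eq_one_iff, Subgroup.coe_pow, pow_two]
        exact hsq' _ ⟨a, a.2, rfl⟩)
    rw [hΦdef]
    exact Subgroup.map_le_iff_le_comap.2 hfr
  -- `N` is elementary
  have hN2 : ∀ y ∈ N, y * y = 1 := by
    let T : Subgroup G :=
      { carrier := {y | y ∈ N ∧ y * y = 1}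
        one_mem' := ⟨N.one_mem, one_mul 1⟩
        mul_mem' := fun {y z} hy hz => ⟨N.mul_mem hy.1 hz.1, by
          have hc : z * y = y * z := Subgroup.mem_centralizer_iff.1 (hNc hy.1) _ (hNQ hz.1)
          calc y * z * (y * z) = y * (z * y) * z := by group
            _ = (y * y) * (z * z) := by rw [hc]; group
            _ = 1 := by rw [hy.2, hz.2, one_mul]⟩
        inv_mem' := fun {y} hy => ⟨N.inv_mem hy.1, by rw [← _root_.mul_inv_rev, hy.2, inv_one]⟩ }
    haveI hT : T.Normal := ⟨fun y hy g => ⟨hN.conj_mem _ hy.1 g, by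
      calc g * y * g⁻¹ * (g * y * g⁻¹) = g * (y * y) * g⁻¹ := by group
        _ = 1 := by rw [hy.2]; group⟩⟩
    have hT1 : T ≠ ⊥ := by
      have hNp : IsPGroup 2 ↥N := hQ.to_le hNQ
      haveI : Nontrivial ↥N := (Subgroup.nontrivial_iff_ne_bot N).2 hN1
      obtain ⟨k, hk'⟩ := hNp.exists_card_eq
      obtain ⟨y, hy⟩ := exists_prime_orderOf_dvd_card' 2 (G := ↥N) (by
        rw [hk']
        refine dvd_pow_self 2 fun hk => ?_
        rw [hk, pow_zero] at hk'
        exact Finite.one_lt_card.ne' hk')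
      intro h
      have hmem : (y : G) ∈ T := ⟨y.2, by
        have := congrArg Subtype.val (pow_orderOf_eq_one y)
        rwa [hy, Subgroup.coe_pow, pow_two] at this⟩
      rw [h, Subgroup.mem_bot] at hmem
      rw [show y = 1 from Subtype.ext hmem, orderOf_one] at hy
      norm_num at hy
    have := hmin T hT (fun y hy => hy.1) hT1
    intro y hy
    exact ((this ▸ hy : y ∈ T)).2
  -- the commutator form vanishes
  let W := ↥Q ⧸ frattini ↥Q
  have hcommQ : commutator ↥Q ≤ frattini ↥Q := Cfsg.Agent.PGroup.commutator_le_frattini hQ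
  letI : CommGroup W := { (inferInstance : Group W) with
    mul_comm := fun a b => by
      induction a using QuotientGroup.induction_on with
      | _ a =>
      induction b using QuotientGroup.induction_on with
      | _ b =>
        rw [← QuotientGroup.mk_mul, ← QuotientGroup.mk_mul, QuotientGroup.eq]
        have hm : ⁅b⁻¹, a⁻¹⁆ ∈ frattini ↥Q :=
          hcommQ (Subgroup.commutator_mem_commutator (Subgroup.mem_top _) (Subgroup.mem_top _))
        convert hm using 1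
        group }
  letI : CommGroup ↥N := { (inferInstance : Group ↥N) with
    mul_comm := fun a b => Subtype.ext (Subgroup.mem_centralizer_iff.1 (hNc b.2) _ (hNQ a.2)) }
  let cW : G →* MulAut W :=
    { toFun := fun g => QuotientGroup.congr (frattini ↥Q) (frattini ↥Q) (MulAut.conjNormal g)
        (Subgroup.characteristic_iff_map_eq.1 inferInstance _)
      map_one' := MulEquiv.ext fun w => by
        induction w using QuotientGroup.induction_on with
        | _ w =>
          show ((MulAut.conjNormal (1 : G) w : ↥Q) : W) = (w : W)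
          rw [map_one]; rfl
      map_mul' := fun g h => MulEquiv.ext fun w => by
        induction w using QuotientGroup.induction_on with
        | _ w =>
          show ((MulAut.conjNormal (g * h) w : ↥Q) : W) =
            ((MulAut.conjNormal g (MulAut.conjNormal h w) : ↥Q) : W)
          rw [map_mul]; rfl }
  have hcW : ∀ (g : G) (q : ↥Q), cW g (q : W) = ((MulAut.conjNormal g q : ↥Q) : W) := fun _ _ => rfl
  have hWker : Q ≤ cW.ker := fun g hg => MulEquiv.ext fun w => by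
    induction w using QuotientGroup.induction_on with
    | _ w =>
      rw [hcW, show MulAut.conjNormal g w = (⟨g, hg⟩ : ↥Q) * w * (⟨g, hg⟩ : ↥Q)⁻¹ from
        Subtype.ext (by simp [MulAut.conjNormal_apply]), QuotientGroup.mk_mul, QuotientGroup.mk_mul,
        mul_comm ((⟨g, hg⟩ : ↥Q) : W), mul_assoc, ← QuotientGroup.mk_mul, mul_inv_cancel]
      simp
  let cN : G →* MulAut ↥N := MulAut.conjNormal
  have hNker : Q ≤ cN.ker := fun g hg => MulEquiv.ext fun y => Subtype.ext (by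
    show g * (y : G) * g⁻¹ = y
    rw [Subgroup.mem_centralizer_iff.1 (hNc y.2) g hg, mul_inv_cancel_right])
  have hWfpf : ∀ w : W, cW x w = w → w = 1 := fun w => by
    induction w using QuotientGroup.induction_on with
    | _ w =>
      intro hw
      rw [hcW, eq_comm, QuotientGroup.eq] at hw
      rw [QuotientGroup.eq_one_iff]
      have h2 : ((w⁻¹ * MulAut.conjNormal x w : ↥Q) : G) ∈ N := hΦN ▸ Subgroup.mem_map_of_mem Q.subtype hw
      have hmem : (w : G) ∈ N := hxN w w.2 (by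
        have h3 := hN.conj_mem _ h2 (w : G)
        simp only [Subgroup.coe_mul, Subgroup.coe_inv, MulAut.conjNormal_apply] at h3
        convert h3 using 1
        group)
      rw [← hΦN] at hmem
      obtain ⟨z, hz, hzw⟩ := hmem
      rwa [← show z = w from Subtype.ext hzw]
  have hNfpf : ∀ y : ↥N, cN x y = y → y = 1 := fun y hy =>
    Subtype.ext (hfpf _ (hNQ y.2) (congrArg Subtype.val hy))
  have hmk : ∀ v : Additive W, ∃ a : ↥Q, Additive.ofMul (a : W) = v := fun v =>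
    QuotientGroup.mk_surjective (Additive.toMul v)
  have hW2 : ∀ m : Additive W, m + m = 0 := fun m => by
    obtain ⟨q, rfl⟩ := hmk m
    exact (QuotientGroup.eq_one_iff _).2 (hsq q)
  have hN2' : ∀ m : Additive ↥N, m + m = 0 := fun m => Subtype.ext (hN2 _ (Additive.toMul m).2)
  obtain ⟨DW⟩ := exists_data (secRep Q e cW hWker) hF hW2
    (traceOne_secRep hQ e hF hx cW hWker hWfpf)
  obtain ⟨DN⟩ := exists_data (secRep Q e cN hNker) hF hN2'
    (traceOne_secRep hQ e hF hx cN hNker hNfpf)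
  have hcm : ∀ a b : ↥Q, ((⁅a, b⁆ : ↥Q) : G) ∈ N := fun a b => hΦN ▸ Subgroup.mem_map_of_mem Q.subtype
    (hcommQ (Subgroup.commutator_mem_commutator (Subgroup.mem_top _) (Subgroup.mem_top _)))
  have hcz : ∀ (a b : ↥Q) (q : ↥Q), ⁅a, b⁆ * q = q * ⁅a, b⁆ := fun a b q =>
    Subtype.ext ((Subgroup.mem_centralizer_iff.1 (hNc (hcm a b)) _ q.2).symm)
  have hfz : ∀ {c : ↥Q}, c ∈ frattini ↥Q → ∀ q, c * q = q * c := fun {c} hc q =>
    Subtype.ext ((Subgroup.mem_centralizer_iff.1 (hNc (hΦN ▸ Subgroup.mem_map_of_mem Q.subtype hc)) _ q.2).symm)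
  let βQ : ↥Q → ↥Q → ↥N := fun a b => ⟨((⁅a, b⁆ : ↥Q) : G), hcm a b⟩
  have hbl : ∀ a a' b : ↥Q, ⁅a * a', b⁆ = ⁅a, b⁆ * ⁅a', b⁆ := fun a a' b => by
    calc ⁅a * a', b⁆ = a * ⁅a', b⁆ * a⁻¹ * ⁅a, b⁆ := by group
      _ = ⁅a', b⁆ * ⁅a, b⁆ := by rw [← hcz a' b a, mul_inv_cancel_right]
      _ = _ := hcz a' b _
  have hbr : ∀ a b b' : ↥Q, ⁅a, b * b'⁆ = ⁅a, b⁆ * ⁅a, b'⁆ := fun a b b' => by
    calc ⁅a, b * b'⁆ = ⁅a, b⁆ * (b * ⁅a, b'⁆ * b⁻¹) := by group
      _ = _ := by rw [← hcz a b' b, mul_inv_cancel_right]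
  have hwd : ∀ a a' b b' : ↥Q, (a : W) = a' → (b : W) = b' → βQ a b = βQ a' b' := by
    intro a a' b b' ha hb
    rw [QuotientGroup.eq] at ha hb
    have hl : ∀ c ∈ frattini ↥Q, ∀ q : ↥Q, ⁅c, q⁆ = 1 ∧ ⁅q, c⁆ = 1 := fun c hc q => by
      rw [commutatorElement_eq_one_iff_mul_comm, commutatorElement_eq_one_iff_mul_comm]
      exact ⟨hfz hc q, (hfz hc q).symm⟩
    apply Subtype.ext
    show ((⁅a, b⁆ : ↥Q) : G) = ((⁅a', b'⁆ : ↥Q) : G)
    rw [show a' = a * (a⁻¹ * a') by group, show b' = b * (b⁻¹ * b') by group, hbl, hbr,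
      (hl _ hb a).2, mul_one, (hl _ ha _).1, mul_one]
  let β : Additive W →+ Additive W →+ Additive ↥N :=
    AddMonoidHom.mk' (fun v => AddMonoidHom.mk'
      (fun w => Additive.ofMul (Quotient.liftOn₂' (Additive.toMul v : W) (Additive.toMul w : W) βQ
        fun a b a' b' ha hb => hwd a a' b b' (Quotient.sound' ha) (Quotient.sound' hb)))
      (fun w w' => by
        obtain ⟨a, rfl⟩ := hmk v
        obtain ⟨b, rfl⟩ := hmk w
        obtain ⟨b', rfl⟩ := hmk w'
        show Additive.ofMul (βQ a (b * b')) = Additive.ofMul (βQ a b * βQ a b')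
        exact congrArg _ (Subtype.ext (by show ((⁅a, b * b'⁆ : ↥Q) : G) = _; rw [hbr]; rfl))))
      (fun v v' => AddMonoidHom.ext fun w => by
        obtain ⟨a, rfl⟩ := hmk v
        obtain ⟨a', rfl⟩ := hmk v'
        obtain ⟨b, rfl⟩ := hmk w
        show Additive.ofMul (βQ (a * a') b) = Additive.ofMul (βQ a b * βQ a' b)
        exact congrArg _ (Subtype.ext (by show ((⁅a * a', b⁆ : ↥Q) : G) = _; rw [hbl]; rfl)))
  have hβ : ∀ a b : ↥Q, β (Additive.ofMul (a : W)) (Additive.ofMul (b : W)) = Additive.ofMul (βQ a b) :=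
    fun _ _ => rfl
  have hsymm : ∀ v w, β v w = β w v := fun v w => by
    obtain ⟨a, rfl⟩ := hmk v
    obtain ⟨b, rfl⟩ := hmk w
    rw [hβ, hβ]
    refine congrArg _ (Subtype.ext ?_)
    show ((⁅a, b⁆ : ↥Q) : G) = ((⁅b, a⁆ : ↥Q) : G)
    rw [← commutatorElement_inv a b, Subgroup.coe_inv]
    exact (inv_eq_of_mul_eq_one_left (hN2 _ (hcm a b))).symm
  have hβ0 : β = 0 := form_eq_zero DW DN a ha0 ha1 β hsymm fun g v w => by
    obtain ⟨g, rfl⟩ := e.surjective g
    obtain ⟨g, rfl⟩ := QuotientGroup.mk_surjective g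
    obtain ⟨a, rfl⟩ := hmk v
    obtain ⟨b, rfl⟩ := hmk w
    rw [secRep_apply, secRep_apply, secRep_apply, toMul_ofMul, toMul_ofMul, hcW, hcW, hβ, hβ, toMul_ofMul]
    refine congrArg _ (Subtype.ext ?_)
    show ((⁅MulAut.conjNormal g a, MulAut.conjNormal g b⁆ : ↥Q) : G) =
      ((cN g ⟨_, hcm a b⟩ : ↥N) : G)
    rw [← map_commutatorElement]
    rfl
  have hab : ∀ a b : ↥Q, a * b = b * a := fun a b => by
    have h := hβ a b
    rw [hβ0] at h
    have h' : ((⁅a, b⁆ : ↥Q) : G) = 1 := (congrArg (fun z : ↥N => (z : G)) (Additive.ofMul.injective h)).symm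
    exact commutatorElement_eq_one_iff_mul_comm.1 (Subtype.ext h')
  -- `Q` abelian of exponent dividing 4
  letI : CommGroup ↥Q := { (inferInstance : Group ↥Q) with mul_comm := hab }
  let cQ : G →* MulAut ↥Q := MulAut.conjNormal
  have hQker : Q ≤ cQ.ker := fun g hg => MulEquiv.ext fun y => Subtype.ext (by
    show g * (y : G) * g⁻¹ = y
    have h : g * (y : G) = y * g := congrArg Subtype.val (hab ⟨g, hg⟩ y)
    rw [h, mul_inv_cancel_right])
  have h4 : ∀ m : Additive ↥Q, (4 : ℤ) • m = 0 := fun m => by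
    have hm : (m + m) + (m + m) = 0 := Subtype.ext
      (hN2 _ (hΦN ▸ Subgroup.mem_map_of_mem Q.subtype (hsq (Additive.toMul m))))
    rw [show (4 : ℤ) • m = (m + m) + (m + m) by abel]
    exact hm
  have h2 := add_self_of_four (secRep Q e cQ hQker) hF
    (traceOne_secRep hQ e hF hx cQ hQker fun y hy =>
      Subtype.ext (hfpf _ y.2 (congrArg Subtype.val hy))) h4 a ha0 ha1
  exact hall fun q hq => congrArg Subtype.val (h2 (Additive.ofMul ⟨q, hq⟩))

/-- **Higman.** -/
theorem higman [Finite G] (Q : Subgroup G) [Q.Normal] (hQ : IsPGroup 2 ↥Q) (hF : (2 : F) = 0)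
    (hn : 4 ≤ Nat.card F) (e : G ⧸ Q ≃* SL(2, F)) (x : G) (hx : orderOf x = 3)
    (hfpf : ∀ q ∈ Q, x * q * x⁻¹ = q → q = 1) :
    (∀ q ∈ Q, q * q = 1) ∧ ∃ (k : ℕ) (φ : (Fin k → Fin 2 → F) ≃ ↥Q),
      (∀ v w, φ (v + w) = φ v * φ w) ∧ ∀ (g : G) v,
        (φ (fun i => ((e (g : G ⧸ Q) : SL(2, F)) : Matrix (Fin 2) (Fin 2) F).mulVec (v i)) : G) =
          g * φ v * g⁻¹ := by
  have h2 := elementary_aux (Nat.card G) rfl Q hQ hF hn e x hx hfpf
  refine ⟨h2, ?_⟩
  have hab : ∀ a b : ↥Q, a * b = b * a := fun a b => by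
    have hinv : ∀ z : ↥Q, z⁻¹ = z := fun z => inv_eq_of_mul_eq_one_left (Subtype.ext (h2 _ z.2))
    calc a * b = (a * b)⁻¹ := (hinv _).symm
      _ = b * a := by rw [_root_.mul_inv_rev, hinv, hinv]
  letI : CommGroup ↥Q := { (inferInstance : Group ↥Q) with mul_comm := hab }
  let cQ : G →* MulAut ↥Q := MulAut.conjNormal
  have hQker : Q ≤ cQ.ker := fun g hg => MulEquiv.ext fun y => Subtype.ext (by
    show g * (y : G) * g⁻¹ = y
    have h : g * (y : G) = y * g := congrArg Subtype.val (hab ⟨g, hg⟩ y)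
    rw [h, mul_inv_cancel_right])
  obtain ⟨D⟩ := exists_data (secRep Q e cQ hQker) hF
    (fun m => Subtype.ext (h2 _ (Additive.toMul m).2))
    (traceOne_secRep hQ e hF hx cQ hQker fun y hy =>
      Subtype.ext (hfpf _ y.2 (congrArg Subtype.val hy)))
  obtain ⟨k, φ, hφ⟩ := exists_natural D
  refine ⟨k, φ.toEquiv.trans Additive.toMul, fun v w => ?_, fun g v => ?_⟩
  · exact congrArg Additive.toMul (map_add φ v w)
  · have h := congrArg (fun m => ((Additive.toMul m : ↥Q) : G)) (hφ (e (g : G ⧸ Q)) v)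
    rw [secRep_apply] at h
    exact h

end Cfsg.Agent.HigmanSL2
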