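import Cfsg.Agent.Lib.HigmanSL2.Module

/-!
No lift to exponent 4: an abelian group of exponent dividing 4 on which `SL(2, F)`, `|F| = 2ⁿ ≥ 4`, acts
with fixed-point-free elements of order 3 (also on the two layers) has exponent 2.
-/

set_option autoImplicit false

namespace Cfsg.Agent.HigmanSL2

open Matrix Cfsg.Agent.PSL2
open scoped MatrixGroups

variable {M : Type*} [AddCommGroup M]

/-- `2M` -/
def twice (M : Type*) [AddCommGroup M] : AddSubgroup M := (nsmulAddMonoidHom (α := M) 2).range

theorem mem_twice {x : M} : x ∈ twice M ↔ ∃ m, m + m = x := by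
  simp [twice, AddMonoidHom.mem_range, two_nsmul]

theorem map_mem_twice (φ : AddMonoid.End M) {x : M} (hx : x ∈ twice M) : φ x ∈ twice M := by
  obtain ⟨m, rfl⟩ := mem_twice.1 hx
  exact mem_twice.2 ⟨φ m, (map_add φ m m).symm⟩

/-- Reduction modulo `2M`. -/
def redQuot : AddMonoid.End M →+* AddMonoid.End (M ⧸ twice M) where
  toFun φ := QuotientAddGroup.map (twice M) (twice M) φ (fun _ hx => map_mem_twice φ hx)
  map_one' := QuotientAddGroup.addMonoidHom_ext _ rfl
  map_mul' _ _ := QuotientAddGroup.addMonoidHom_ext _ rfl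
  map_zero' := QuotientAddGroup.addMonoidHom_ext _ rfl
  map_add' _ _ := QuotientAddGroup.addMonoidHom_ext _ rfl

/-- Restriction to `2M`. -/
def redSub : AddMonoid.End M →+* AddMonoid.End ↥(twice M) where
  toFun φ :=
    { toFun := fun x => ⟨φ x.1, map_mem_twice φ x.2⟩
      map_zero' := Subtype.ext (map_zero φ)
      map_add' := fun x y => Subtype.ext (map_add φ x.1 y.1) }
  map_one' := rfl
  map_mul' _ _ := rfl
  map_zero' := rfl
  map_add' _ _ := rfl

theorem redQuot_apply (φ : AddMonoid.End M) (m : M) :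
    redQuot φ (m : M ⧸ twice M) = ((φ m : M) : M ⧸ twice M) := rfl

theorem redSub_apply (φ : AddMonoid.End M) (t : ↥(twice M)) : (redSub φ t : M) = φ t.1 := rfl

theorem mul_eq_zero_of {x y : AddMonoid.End M} (hx : redSub x = 0) (hy : redQuot y = 0) :
    x * y = 0 := by
  refine AddMonoidHom.ext fun m => ?_
  have h1 : y m ∈ twice M := by
    rw [← QuotientAddGroup.eq_zero_iff, ← redQuot_apply, hy]
    rfl
  have h2 := congrArg (fun φ : AddMonoid.End ↥(twice M) => (φ ⟨y m, h1⟩ : M)) hx
  exact h2

theorem double_eq_zero_of {x : AddMonoid.End M} (hx : redSub x = 0) : x + x = 0 := by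
  refine AddMonoidHom.ext fun m => ?_
  show x m + x m = 0
  rw [← map_add]
  exact congrArg (fun φ : AddMonoid.End ↥(twice M) => (φ ⟨m + m, mem_twice.2 ⟨m, rfl⟩⟩ : M)) hx

theorem quot_add_self (x : M ⧸ twice M) : x + x = 0 := by
  induction x using QuotientAddGroup.induction_on with
  | _ m =>
    rw [← QuotientAddGroup.mk_add, QuotientAddGroup.eq_zero_iff]
    exact mem_twice.2 ⟨m, rfl⟩

theorem sub_add_self (h4 : ∀ m : M, (4 : ℤ) • m = 0) (x : ↥(twice M)) : x + x = 0 := by
  obtain ⟨m, hm⟩ := mem_twice.1 x.2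
  apply Subtype.ext
  show (x : M) + x = 0
  rw [← hm, ← h4 m]
  abel

section Quad

variable {R : Type*} [Ring R] {u r : R}

/-- `a + b u + c r + d ru` -/
def quad (u r : R) (a b c d : ℤ) : R := a • 1 + b • u + c • r + d • (r * u)

theorem quad_mul (hu : u * u = 1) (hr : r * r = 1) (hur : u * r = -1 - r * u)
    (a b c d a' b' c' d' : ℤ) :
    quad u r a b c d * quad u r a' b' c' d' =
      quad u r (a * a' + b * b' - b * c' + c * c' - d * d') (a * b' + b * a' - b * d' + c * d' - d * c')
        (a * c' + c * a' - b * d' + d * b' - d * c') (a * d' + d * a' - b * c' + c * b' - d * d') := by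
  have t1 : u * (r * u) = -u - r := by rw [← mul_assoc, hur, sub_mul, neg_mul, one_mul, mul_assoc, hu, mul_one]
  have t2 : r * (r * u) = u := by rw [← mul_assoc, hr, one_mul]
  have t3 : r * u * u = r := by rw [mul_assoc, hu, mul_one]
  have t4 : r * u * r = -r - u := by rw [mul_assoc, hur, mul_sub, mul_neg, mul_one, t2]
  have t5 : r * u * (r * u) = -(r * u) - 1 := by rw [← mul_assoc, t4, sub_mul, neg_mul, hu]
  simp only [quad, add_mul, mul_add, smul_mul_assoc, mul_smul_comm, smul_smul, one_mul, mul_one, hu, hr,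
    hur, t1, t2, t3, t4, t5]
  module

theorem quad_add (a b c d a' b' c' d' : ℤ) :
    quad u r a b c d + quad u r a' b' c' d' = quad u r (a + a') (b + b') (c + c') (d + d') := by
  simp only [quad]; module

theorem quad_congr (h4 : ∀ x : R, (4 : ℤ) • x = 0) {a b c d a' b' c' d' : ℤ} (ha : 4 ∣ a - a')
    (hb : 4 ∣ b - b') (hc : 4 ∣ c - c') (hd : 4 ∣ d - d') :
    quad u r a b c d = quad u r a' b' c' d' := by
  have key : ∀ {m m' : ℤ}, 4 ∣ m - m' → ∀ x : R, m • x = m' • x := fun {m m'} hm x => by
    obtain ⟨k, hk⟩ := hm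
    rw [show m = m' + k * 4 by linarith, add_smul, mul_smul, h4, smul_zero, add_zero]
  simp only [quad, key ha, key hb, key hc, key hd]

end Quad

theorem map_coef {R S : Type*} [Ring R] [Ring S] (π : R →+* S) (e f x : R) (i j : Fin 2) :
    π (UnitPair.coef e f x i j) = UnitPair.coef (π e) (π f) (π x) i j := by
  have hmu : ∀ i j, π (mu e f i j) = mu (π e) (π f) i j := fun i j => by
    fin_cases i <;> fin_cases j <;> simp
  simp only [UnitPair.coef, map_sum, map_mul, hmu]

variable {F : Type*} [Field F] [Finite F]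

theorem coef_of_data {R : Type*} [AddCommGroup R] {ρ' : SL(2, F) →* AddMonoid.End R} (D : Data ρ') (a : F) :
    UnitPair.coef (eEl ρ') (fEl ρ') (ρ' (uu a)) 0 0 = 1 ∧
      UnitPair.coef (eEl ρ') (fEl ρ') (ρ' (uu a)) 0 1 = D.B a := by
  have h := D.pair.matEquiv_eq 1 ⟨D.B a, D.comm a⟩ 0 1 (r := ρ' (uu a)) (by
    rw [D.uu_eq]
    simp only [OneMemClass.coe_one, ZeroMemClass.coe_zero, one_mul, zero_mul, add_zero]
    rw [add_right_comm, D.pair.one])
  constructor
  · rw [← UnitPair.matEquiv_apply D.pair, h]; simp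
  · rw [← UnitPair.matEquiv_apply D.pair, h]; simp

theorem add_self_of_four (ρ : SL(2, F) →* AddMonoid.End M) (hF : (2 : F) = 0) (hq : TraceOne ρ)
    (h4 : ∀ m : M, (4 : ℤ) • m = 0) (a : F) (ha0 : a ≠ 0) (ha1 : a ≠ 1) (m : M) : m + m = 0 := by
  have h4R : ∀ x : AddMonoid.End M, (4 : ℤ) • x = 0 := fun x => AddMonoidHom.ext fun y => by
    show (4 : ℤ) • (x y) = 0
    exact h4 _
  set u := ρ (uu 1) with hudef
  set r := ρ ww with hrdef
  have hu : u * u = 1 := by rw [hudef, ← map_mul, uu_sq hF, map_one]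
  have hr : r * r = 1 := by rw [hrdef, ← map_mul, ww_sq hF, map_one]
  have h3 : r * u * (r * u) + r * u + 1 = 0 := by
    have h := hq (ww * uu 1) (by simp only [mul00, mul11]; simp [neg_eq hF])
    rwa [map_mul] at h
  have hrur : r * u * r = -r - u := by
    have h := congrArg (· * u) h3
    simp only [add_mul, zero_mul, one_mul, mul_assoc, hu, mul_one] at h
    rw [← mul_assoc] at h
    rw [← sub_eq_zero, ← h]
    abel
  have hur : u * r = -1 - r * u := by
    calc u * r = r * r * u * r := by rw [hr, one_mul]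
      _ = r * (r * u * r) := by simp [mul_assoc]
      _ = -1 - r * u := by rw [hrur, mul_sub, mul_neg, hr]
  set e := quad u r 1 (-1) (-2) 2 with hedef
  set f := quad u r (-1) 1 (-1) (-2) with hfdef
  have hzero : quad u r 0 0 0 0 = 0 := by simp [quad]
  have hone : quad u r 1 0 0 0 = 1 := by simp [quad]
  have P : UnitPair e f := by
    refine ⟨?_, ?_, ?_⟩
    · rw [hedef, quad_mul hu hr hur, ← hzero]
      exact quad_congr h4R (by norm_num) (by norm_num) (by norm_num) (by norm_num)
    · rw [hfdef, quad_mul hu hr hur, ← hzero]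
      exact quad_congr h4R (by norm_num) (by norm_num) (by norm_num) (by norm_num)
    · rw [hedef, hfdef, quad_mul hu hr hur, quad_mul hu hr hur, quad_add, ← hone]
      exact quad_congr h4R (by norm_num) (by norm_num) (by norm_num) (by norm_num)
  have hu1 : P.matEquiv u = !![1, -1; 0, -1] := P.matEquiv_eq 1 (-1) 0 (-1) (by
    have e0 : -e = quad u r (-1) 1 2 (-2) := by rw [hedef]; simp only [quad]; module
    have e1 : -(f * e) = quad u r (-1) 0 0 0 * (f * e) := by simp [quad]
    rw [OneMemClass.coe_one, NegMemClass.coe_neg, OneMemClass.coe_one, ZeroMemClass.coe_zero, one_mul,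
      neg_one_mul, neg_one_mul, zero_mul, add_zero, e0, e1, hedef, hfdef]
    simp only [quad_mul hu hr hur, quad_add]
    rw [show u = quad u r 0 1 0 0 by simp [quad]]
    rw [show quad (quad u r 0 1 0 0) r = quad u r by simp [quad]]
    exact quad_congr h4R (by norm_num) (by norm_num) (by norm_num) (by norm_num))
  obtain ⟨Dq⟩ := exists_data ((redQuot (M := M)).toMonoidHom.comp ρ) hF quot_add_self (fun g hg => by
    have := congrArg (redQuot (M := M)) (hq g hg)
    rwa [map_add, map_add, map_mul, map_one, map_zero] at this)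
  obtain ⟨Ds⟩ := exists_data ((redSub (M := M)).toMonoidHom.comp ρ) hF (sub_add_self h4) (fun g hg => by
    have := congrArg (redSub (M := M)) (hq g hg)
    rwa [map_add, map_add, map_mul, map_one, map_zero] at this)
  have hll : ρ (ll 1) = -r - u := by rw [ll_eq_conj hF, map_mul, map_mul, ← hudef, ← hrdef, hrur]
  have red : ∀ {N : Type _} [AddCommGroup N] (π : AddMonoid.End M →+* AddMonoid.End N),
      (2 : AddMonoid.End N) = 0 → π e = eEl (π.toMonoidHom.comp ρ) ∧ π f = fEl (π.toMonoidHom.comp ρ) := by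
    intro N _ π h2
    constructor
    · rw [show e = (u + 1) + 2 * quad u r 0 (-1) (-1) 1 by
        rw [hedef, two_mul, quad_add, quad, quad]; module, map_add, map_mul, map_ofNat, h2, zero_mul,
        add_zero, map_add, map_one]
      rfl
    · rw [show f = (ρ (ll 1) + 1) + 2 * quad u r (-1) 1 0 (-1) by
        rw [hfdef, hll, two_mul, quad_add, quad, quad]; module, map_add, map_mul, map_ofNat, h2, zero_mul,
        add_zero, map_add, map_one]
      rfl
  obtain ⟨hqe, hqf⟩ := red redQuot Dq.hR
  obtain ⟨hse, hsf⟩ := red redSub Ds.hR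
  set p := UnitPair.coef e f (ρ (uu a)) 0 0 with hpdef
  set q := UnitPair.coef e f (ρ (uu a)) 0 1 with hqdef
  have hqp : redQuot p = 1 ∧ redQuot q = Dq.B a := by
    rw [hpdef, hqdef, map_coef, map_coef, hqe, hqf]
    exact coef_of_data Dq a
  have hsp : redSub p = 1 ∧ redSub q = Ds.B a := by
    rw [hpdef, hqdef, map_coef, map_coef, hse, hsf]
    exact coef_of_data Ds a
  have hanti : p * q + q * p + (q * q + q * q) = 0 := by
    have hc : P.matEquiv u * P.matEquiv (ρ (uu a)) = P.matEquiv (ρ (uu a)) * P.matEquiv u := by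
      rw [← map_mul, ← map_mul, hudef, ← map_mul, ← map_mul, uu_mul_uu, uu_mul_uu, add_comm]
    have hs : P.matEquiv (ρ (uu a)) * P.matEquiv (ρ (uu a)) = 1 := by
      rw [← map_mul, ← map_mul, uu_sq hF, map_one, map_one]
    rw [hu1] at hc
    set X := P.matEquiv (ρ (uu a)) with hX
    have h00 := congrFun (congrFun hc 0) 0
    have h01 := congrFun (congrFun hc 0) 1
    have hs01 := congrFun (congrFun hs 0) 1
    simp [Matrix.mul_apply, Fin.sum_univ_two] at h00 h01 hs01
    have h11 : X 1 1 = X 0 0 + (X 0 1 + X 0 1) :=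
      calc X 1 1 = X 0 1 - (X 0 1 + -X 1 1) := by abel
        _ = X 0 0 + (X 0 1 + X 0 1) := by rw [h01]; abel
    rw [h11] at hs01
    have key : ((X 0 0 * X 0 1 + X 0 1 * (X 0 0 + (X 0 1 + X 0 1)) : ↥(scal e f)) : AddMonoid.End M) = 0 := by
      rw [hs01]; rfl
    simp only [Subring.coe_add, Subring.coe_mul, mul_add] at key
    simp only [add_assoc] at key ⊢
    exact key
  set γ := p - 1 with hγdef
  have hγq : redQuot γ = 0 := by rw [hγdef, map_sub, hqp.1, map_one, sub_self]
  have hγs : redSub γ = 0 := by rw [hγdef, map_sub, hsp.1, map_one, sub_self]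
  set d := q + q + (q * q + q * q) with hddef
  have hd2 : d + d = 0 := by
    have : d + d = (4 : ℤ) • (q + q * q) := by rw [hddef]; abel
    rw [this, h4R]
  have hdq : d * q = q * d := by rw [hddef]; noncomm_ring
  have hcomm : γ * q = q * γ + d := by
    have h1 : q * γ + q * γ = 0 := by rw [← mul_add, double_eq_zero_of hγs, mul_zero]
    calc γ * q = γ * q + (q * γ + q * γ) + (d + d) - (p * q + q * p + (q * q + q * q)) := by
          rw [h1, hd2, hanti]; abel
      _ = q * γ + d := by rw [hγdef, hddef]; noncomm_ring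
  have hpow : ∀ k : ℕ, γ * q ^ (k + 1) = q ^ (k + 1) * γ + (k + 1) • (d * q ^ k) := by
    intro k
    induction k with
    | zero => simpa using hcomm
    | succ k ih =>
      rw [pow_succ q (k + 1), ← mul_assoc, ih, add_mul, mul_assoc, hcomm, mul_add, ← mul_assoc,
        smul_mul_assoc, mul_assoc d, ← pow_succ, succ_nsmul _ (k + 1),
        show q ^ (k + 1) * d = d * q ^ (k + 1) from
          ((Commute.pow_right (show Commute d q from hdq) (k + 1)).eq).symm, pow_succ q (k + 1)]
      abel
  haveI := Fintype.ofFinite F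
  haveI : CharP F 2 := CharTwo.of_one_ne_zero_of_two_eq_zero one_ne_zero hF
  obtain ⟨⟨n, hn0⟩, -, hcard⟩ := FiniteField.card F 2
  simp only [PNat.mk_coe] at hcard
  obtain ⟨k, hk⟩ : ∃ k, Fintype.card F = k + 1 :=
    ⟨Fintype.card F - 1, (Nat.succ_pred_eq_of_pos Fintype.card_pos).symm⟩
  have hd0 : d = 0 := by
    have hz1 : redQuot (q ^ (k + 1) - q) = 0 := by
      rw [map_sub, map_pow, hqp.2, ← map_pow, ← hk, FiniteField.pow_card, sub_self]
    have hz2 : redSub (q ^ (k + 1) - q) = 0 := by
      rw [map_sub, map_pow, hsp.2, ← map_pow, ← hk, FiniteField.pow_card, sub_self]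
    have a1 := mul_eq_zero_of hγs hz1
    have a2 := mul_eq_zero_of hz2 hγq
    rw [mul_sub, sub_eq_zero] at a1
    rw [sub_mul, sub_eq_zero] at a2
    have heven : (k + 1) • (d * q ^ k) = 0 := by
      obtain ⟨m, hm⟩ : 2 ∣ k + 1 := by rw [← hk, hcard]; exact dvd_pow_self 2 hn0.ne'
      rw [hm, mul_comm, mul_smul, two_nsmul, ← add_mul, hd2, zero_mul]; exact nsmul_zero m
    have h := hpow k
    rw [heven, add_zero, a1, a2, hcomm] at h
    exact add_left_cancel (h.trans (add_zero _).symm)
  have hne : a + a * a ≠ 0 := by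
    intro h
    have h' : a * (a + 1) = 0 := by linear_combination h
    rcases mul_eq_zero.1 h' with h'' | h''
    · exact ha0 h''
    · exact ha1 (by linear_combination h'' - hF)
  let t : ↥(twice M) := ⟨m + m, mem_twice.2 ⟨m, rfl⟩⟩
  have h1 : Ds.B (a + a * a) t = 0 := by
    rw [map_add, map_mul, ← hsp.2, ← map_mul, ← map_add]
    apply Subtype.ext
    rw [redSub_apply]
    show (q + q * q) (m + m) = 0
    have : (q + q * q) (m + m) = d m := by
      rw [map_add, hddef]
      show q m + q (q m) + (q m + q (q m)) = q m + q m + (q (q m) + q (q m))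
      abel
    rw [this, hd0]
    rfl
  have h2 := congrArg (Ds.B (a + a * a)⁻¹) h1
  rw [map_zero] at h2
  have h3 : Ds.B (a + a * a)⁻¹ * Ds.B (a + a * a) = 1 := by rw [← map_mul, inv_mul_cancel₀ hne, map_one]
  have h4' : t = 0 := (congrArg (fun φ : AddMonoid.End ↥(twice M) => φ t) h3).symm.trans h2
  exact congrArg Subtype.val h4'

end Cfsg.Agent.HigmanSL2
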