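import Cfsg.Agent.Lib.HigmanSL2.Ring

/-!
Modules over `SL(2, F)`, `F` of characteristic 2, in which elements of order 3 act fixed-point-freely:
they are sums of natural modules, and every equivariant alternating form between two of them vanishes.
-/

set_option autoImplicit false

namespace Cfsg.Agent.HigmanSL2

open Matrix Cfsg.Agent.PSL2
open scoped MatrixGroups

variable {F : Type*} [Field F] [Finite F] {M : Type*} [AddCommGroup M]

theorem end_two_eq_zero (h : ∀ m : M, m + m = 0) : (2 : AddMonoid.End M) = 0 := by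
  rw [← one_add_one_eq_two]
  exact AddMonoidHom.ext h

/-- A representation with the natural-module data. -/
structure Data (ρ : SL(2, F) →* AddMonoid.End M) where
  B : F →+* AddMonoid.End M
  hF : (2 : F) = 0
  hR : (2 : AddMonoid.End M) = 0
  pair : UnitPair (eEl ρ) (fEl ρ)
  comm : ∀ a, B a ∈ scal (eEl ρ) (fEl ρ)
  uu_eq : ∀ a, ρ (uu a) = 1 + B a * eEl ρ

theorem exists_data (ρ : SL(2, F) →* AddMonoid.End M) (hF : (2 : F) = 0)
    (hM : ∀ m : M, m + m = 0) (hq : TraceOne ρ) : Nonempty (Data ρ) := by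
  obtain ⟨B, h1, h2⟩ := natural hF (end_two_eq_zero hM) hq
  exact ⟨⟨B, hF, end_two_eq_zero hM, unitPair hF (end_two_eq_zero hM) hq, h1, h2⟩⟩

namespace Data

variable {ρ : SL(2, F) →* AddMonoid.End M} (D : Data ρ)
include D

omit [Finite F] in
theorem add_self (m : M) : m + m = 0 := by
  have h := congrArg (fun φ : AddMonoid.End M => φ m) D.hR
  rw [← one_add_one_eq_two] at h
  exact h

/-- The fixed space of the upper unipotent group. -/
def K (_ : Data ρ) : AddSubgroup M where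
  carrier := {k | eEl ρ k = 0}
  zero_mem' := map_zero _
  add_mem' := fun {a b} (ha : eEl ρ a = 0) (hb : eEl ρ b = 0) => show eEl ρ (a + b) = 0 by
    rw [map_add, ha, hb, add_zero]
  neg_mem' := fun {a} (ha : eEl ρ a = 0) => show eEl ρ (-a) = 0 by rw [map_neg, ha, neg_zero]

omit [Finite F] in
theorem mem_K {k : M} : k ∈ D.K ↔ eEl ρ k = 0 := Iff.rfl

omit [Finite F] in
theorem ww_eq : ρ ww = eEl ρ + fEl ρ := by
  have e1 : ρ (uu 1) = eEl ρ + 1 := by
    rw [eEl, add_assoc, one_add_one_eq_two, D.hR, add_zero]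
  have e2 : ρ (ll 1) = fEl ρ + 1 := by
    rw [fEl, add_assoc, one_add_one_eq_two, D.hR, add_zero]
  rw [HigmanSL2.ww_eq D.hF, map_mul, map_mul, e1, e2]
  calc (eEl ρ + 1) * (fEl ρ + 1) * (eEl ρ + 1)
      = eEl ρ * fEl ρ * eEl ρ + eEl ρ * eEl ρ + (eEl ρ * fEl ρ + fEl ρ * eEl ρ) +
          2 * eEl ρ + fEl ρ + 1 := by noncomm_ring
    _ = _ := by
      rw [D.pair.efe, D.pair.ee, D.pair.one, D.hR, zero_mul]
      have : eEl ρ + 0 + 1 + 0 + fEl ρ + 1 = eEl ρ + fEl ρ + 2 := by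
        rw [← one_add_one_eq_two]; abel
      rw [this, D.hR, add_zero]

omit [Finite F] in
theorem e_ww (k : M) (hk : k ∈ D.K) : eEl ρ (ρ ww k) = k := by
  have h := congrArg (fun φ : AddMonoid.End M => φ k) D.pair.one
  change eEl ρ (fEl ρ k) + fEl ρ (eEl ρ k) = k at h
  rw [D.mem_K.1 hk, map_zero, add_zero] at h
  rw [D.ww_eq]
  change eEl ρ (eEl ρ k + fEl ρ k) = k
  rw [D.mem_K.1 hk, zero_add, h]

omit [Finite F] in
theorem B_mem (a : F) {k : M} (hk : k ∈ D.K) : D.B a k ∈ D.K := by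
  rw [D.mem_K]
  have h := congrArg (fun φ : AddMonoid.End M => φ k) (mem_scal.1 (D.comm a)).1
  change eEl ρ (D.B a k) = D.B a (eEl ρ k) at h
  rw [h, D.mem_K.1 hk, map_zero]

omit [Finite F] in
theorem B_ww (a : F) (m : M) : D.B a (ρ ww m) = ρ ww (D.B a m) := by
  obtain ⟨h1, h2⟩ := mem_scal.1 (D.comm a)
  have h : D.B a * ρ ww = ρ ww * D.B a := by rw [D.ww_eq, mul_add, add_mul, h1, h2]
  exact congrArg (fun φ : AddMonoid.End M => φ m) h

omit [Finite F] in
theorem uu_apply (a : F) (m : M) : ρ (uu a) m = m + D.B a (eEl ρ m) := by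
  rw [D.uu_eq]; rfl

omit [Finite F] in
theorem uu_K (a : F) {k : M} (hk : k ∈ D.K) : ρ (uu a) k = k := by
  rw [D.uu_apply, D.mem_K.1 hk, map_zero, add_zero]

omit [Finite F] in
theorem uu_ww_K (a : F) {k : M} (hk : k ∈ D.K) : ρ (uu a) (ρ ww k) = ρ ww k + D.B a k := by
  rw [D.uu_apply, D.e_ww k hk]

omit [Finite F] in
theorem ww_ww (m : M) : ρ ww (ρ ww m) = m := by
  have h : ρ ww * ρ ww = 1 := by rw [← map_mul, ww_sq D.hF, map_one]
  exact congrArg (fun φ : AddMonoid.End M => φ m) h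

omit [Finite F] in
theorem dd_K (a : Fˣ) {k : M} (hk : k ∈ D.K) : ρ (dd a) k = D.B (a : F) k := by
  rw [dd_eq D.hF, ll_eq_conj D.hF, map_mul, map_mul, map_mul, map_mul, map_mul]
  change ρ (uu (a : F)) (ρ ww (ρ (uu _) (ρ ww (ρ (uu (a : F)) (ρ ww k))))) = _
  rw [D.uu_ww_K _ hk, map_add, D.ww_ww, map_add, D.uu_K _ hk, D.uu_ww_K _ (D.B_mem _ hk)]
  have hb : D.B ((a⁻¹ : Fˣ) : F) (D.B (a : F) k) = k := by
    have h : D.B ((a⁻¹ : Fˣ) : F) * D.B (a : F) = 1 := by rw [← map_mul, Units.inv_mul, map_one]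
    exact congrArg (fun φ : AddMonoid.End M => φ k) h
  rw [hb, add_left_comm, D.add_self, add_zero, D.ww_ww]
  exact D.uu_K _ (D.B_mem _ hk)

omit [Finite F] in
theorem decomp (m : M) : m + ρ ww (eEl ρ m) ∈ D.K ∧ eEl ρ m ∈ D.K := by
  have h1 : eEl ρ m ∈ D.K := D.mem_K.2 (congrArg (fun φ : AddMonoid.End M => φ m) D.pair.ee)
  refine ⟨D.mem_K.2 ?_, h1⟩
  rw [map_add, D.e_ww _ h1, D.add_self]

end Data

variable {M' : Type*} [AddCommGroup M']

/-- Equivariant alternating maps between such modules vanish (`|F| ≥ 4`). -/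
theorem form_eq_zero {ρ : SL(2, F) →* AddMonoid.End M} {ρ' : SL(2, F) →* AddMonoid.End M'}
    (D : Data ρ) (D' : Data ρ') (a : F) (ha0 : a ≠ 0) (ha1 : a ≠ 1)
    (β : M →+ M →+ M') (hsymm : ∀ x y, β x y = β y x)
    (heq : ∀ g x y, β (ρ g x) (ρ g y) = ρ' g (β x y)) : β = 0 := by
  classical
  have hKK' : ∀ {k k'}, k ∈ D.K → k' ∈ D.K → β k k' ∈ D'.K := by
    intro k k' hk hk'
    have h := heq (uu 1) k k'
    rw [D.uu_K 1 hk, D.uu_K 1 hk', D'.uu_apply, map_one] at h
    exact D'.mem_K.2 (left_eq_add.1 h)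
  have hlin : ∀ {k k'}, k ∈ D.K → k' ∈ D.K → ∀ b, β k (D.B b k') = D'.B b (eEl ρ' (β k (ρ ww k'))) := by
    intro k k' hk hk' b
    have h := heq (uu b) k (ρ ww k')
    rw [D.uu_K b hk, D.uu_ww_K b hk', D'.uu_apply, map_add] at h
    exact add_left_cancel h
  have hlin1 : ∀ {k k'}, k ∈ D.K → k' ∈ D.K → eEl ρ' (β k (ρ ww k')) = β k k' := by
    intro k k' hk hk'
    have h := hlin hk hk' 1
    rw [map_one, map_one] at h
    exact h.symm
  have hKK : ∀ {k k'}, k ∈ D.K → k' ∈ D.K → β k k' = 0 := by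
    intro k k' hk hk'
    have hB : ∀ {u v}, u ∈ D.K → v ∈ D.K → ∀ b, β u (D.B b v) = D'.B b (β u v) := fun hu hv b => by
      rw [hlin hu hv b, hlin1 hu hv]
    have h1 : D'.B a (β k k') = D'.B a (D'.B a (β k k')) := by
      have h := heq (dd (Units.mk0 a ha0)) k k'
      rw [D.dd_K _ hk, D.dd_K _ hk', D'.dd_K _ (hKK' hk hk'), Units.val_mk0,
        hB (D.B_mem a hk) hk', hsymm, hB hk' hk, hsymm] at h
      exact h.symm
    have h2 : D'.B (a * a + a) (β k k') = 0 := by
      rw [map_add, map_mul]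
      change D'.B a (D'.B a (β k k')) + D'.B a (β k k') = 0
      rw [← h1, D'.add_self]
    have hne : a * a + a ≠ 0 := by
      intro h
      have h' : a * (a + 1) = 0 := by linear_combination h
      rcases mul_eq_zero.1 h' with h'' | h''
      · exact ha0 h''
      · exact ha1 (by linear_combination h'' - D.hF)
    have h3 := congrArg (D'.B (a * a + a)⁻¹) h2
    rw [map_zero] at h3
    rw [← h3]
    have h4 : D'.B (a * a + a)⁻¹ * D'.B (a * a + a) = 1 := by rw [← map_mul, inv_mul_cancel₀ hne, map_one]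
    exact (congrArg (fun φ : AddMonoid.End M' => φ (β k k')) h4).symm
  have hKw : ∀ {k k'}, k ∈ D.K → k' ∈ D.K → β k (ρ ww k') = 0 := by
    intro k k' hk hk'
    have hz : β k (ρ ww k') ∈ D'.K := D'.mem_K.2 ((hlin1 hk hk').trans (hKK hk hk'))
    have h := hlin1 hk' hk
    rw [hKK hk' hk] at h
    have hw := heq ww k (ρ ww k')
    rw [D.ww_ww] at hw
    rw [hsymm, hw] at h
    exact (D'.e_ww _ hz).symm.trans h
  have key : ∀ {k₁ k₂ l₁ l₂}, k₁ ∈ D.K → k₂ ∈ D.K → l₁ ∈ D.K → l₂ ∈ D.K →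
      β (k₁ + ρ ww k₂) (l₁ + ρ ww l₂) = 0 := by
    intro k₁ k₂ l₁ l₂ hx1 hx2 hy1 hy2
    simp only [map_add, AddMonoidHom.add_apply]
    rw [hKK hx1 hy1, hKw hx1 hy2, hsymm (ρ ww k₂) l₁, hKw hy1 hx2, heq, hKK hx2 hy2, map_zero]
    simp
  refine AddMonoidHom.ext fun x => AddMonoidHom.ext fun y => ?_
  obtain ⟨hx1, hx2⟩ := D.decomp x
  obtain ⟨hy1, hy2⟩ := D.decomp y
  have h := key hx1 hx2 hy1 hy2
  rwa [add_assoc x, D.add_self, add_zero, add_assoc y, D.add_self, add_zero] at h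

/-- Such a module is a sum of natural modules. -/
theorem exists_natural [Finite M] {ρ : SL(2, F) →* AddMonoid.End M} (D : Data ρ) :
    ∃ (k : ℕ) (φ : (Fin k → Fin 2 → F) ≃+ M),
      ∀ (g : SL(2, F)) v, φ (fun i => (g : Matrix (Fin 2) (Fin 2) F).mulVec (v i)) = ρ g (φ v) := by
  classical
  letI : Module F M := Module.compHom M D.B
  have hsmul : ∀ (a : F) (m : M), a • m = D.B a m := fun _ _ => rfl
  let KS : Submodule F M :=
    { toAddSubmonoid := D.K.toAddSubmonoid
      smul_mem' := fun a _ hk => D.B_mem a hk }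
  have hKS : ∀ {x}, x ∈ KS ↔ x ∈ D.K := Iff.rfl
  let b := Module.finBasis F KS
  let wwL : M →ₗ[F] M :=
    { toFun := ρ ww
      map_add' := map_add _
      map_smul' := fun a m => (D.B_ww a m).symm }
  let pr : Fin 2 → ((Fin (Module.finrank F KS) → Fin 2 → F) →ₗ[F] M) := fun j =>
    KS.subtype ∘ₗ b.equivFun.symm.toLinearMap ∘ₗ LinearMap.pi fun i =>
      LinearMap.proj j ∘ₗ LinearMap.proj i
  have hpr : ∀ j v, pr j v ∈ D.K := fun j v =>
    hKS.1 (b.equivFun.symm fun i => v i j).2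
  let Φ := pr 0 + wwL ∘ₗ pr 1
  have hΦ : ∀ v, Φ v = pr 0 v + ρ ww (pr 1 v) := fun _ => rfl
  have hbij : Function.Bijective Φ := by
    refine ⟨(injective_iff_map_eq_zero Φ).2 fun v hv => ?_, fun m => ?_⟩
    · rw [hΦ] at hv
      have h1 : pr 1 v = 0 := by
        have := congrArg (fun x : M => eEl ρ x) hv
        rwa [map_add, map_zero, D.mem_K.1 (hpr 0 v), D.e_ww _ (hpr 1 v), zero_add] at this
      have h0 : pr 0 v = 0 := by rwa [h1, map_zero, add_zero] at hv
      have h : ∀ j, pr j v = 0 := fun j => by fin_cases j <;> assumption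
      funext i j
      have hj : (fun i => v i j) = 0 := by
        apply b.equivFun.symm.injective
        rw [map_zero]
        exact Subtype.ext (h j)
      exact congrFun hj i
    · obtain ⟨h1, h2⟩ := D.decomp m
      let c0 := b.equivFun ⟨_, hKS.2 h1⟩
      let c1 := b.equivFun ⟨_, hKS.2 h2⟩
      refine ⟨fun i => ![c0 i, c1 i], ?_⟩
      have e0 : pr 0 (fun i => ![c0 i, c1 i]) = m + ρ ww (eEl ρ m) := by
        show ((b.equivFun.symm c0 : KS) : M) = _
        rw [LinearEquiv.symm_apply_apply]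
      have e1 : pr 1 (fun i => ![c0 i, c1 i]) = eEl ρ m := by
        show ((b.equivFun.symm c1 : KS) : M) = _
        rw [LinearEquiv.symm_apply_apply]
      rw [hΦ, e0, e1, add_assoc, D.add_self, add_zero]
  let φ : (Fin (Module.finrank F KS) → Fin 2 → F) ≃+ M := AddEquiv.ofBijective Φ.toAddMonoidHom hbij
  refine ⟨_, φ, ?_⟩
  have hφ : ∀ v, φ v = pr 0 v + ρ ww (pr 1 v) := fun _ => rfl
  let S : Subgroup SL(2, F) :=
    { carrier := {g | ∀ v, φ (fun i => (g : Matrix (Fin 2) (Fin 2) F).mulVec (v i)) = ρ g (φ v)}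
      one_mem' := fun v => by simp
      mul_mem' := fun {g h} hg hh v => by
        have := hg (fun i => (h : Matrix (Fin 2) (Fin 2) F).mulVec (v i))
        rw [hh] at this
        simp only [Matrix.mulVec_mulVec] at this
        rw [Matrix.SpecialLinearGroup.coe_mul, this, map_mul]
        rfl
      inv_mem' := fun {g} hg v => by
        have := hg (fun i => ((g⁻¹ : SL(2, F)) : Matrix (Fin 2) (Fin 2) F).mulVec (v i))
        simp only [Matrix.mulVec_mulVec, ← Matrix.SpecialLinearGroup.coe_mul, mul_inv_cancel,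
          Matrix.SpecialLinearGroup.coe_one, Matrix.one_mulVec] at this
        have h' : ρ g⁻¹ * ρ g = 1 := by rw [← map_mul, inv_mul_cancel, map_one]
        rw [this]
        exact (congrArg (fun φ' : AddMonoid.End M => φ' _) h').symm }
  have huu : ∀ a, uu a ∈ S := fun a v => by
    have hv : (fun i => (uu a : Matrix (Fin 2) (Fin 2) F).mulVec (v i)) =
        fun i => ![v i 0 + a * v i 1, v i 1] := by
      funext i j
      fin_cases j <;> simp [uu, Matrix.mulVec, dotProduct, Fin.sum_univ_two]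
    rw [hv, hφ, hφ]
    have e0 : pr 0 (fun i => ![v i 0 + a * v i 1, v i 1]) = pr 0 v + D.B a (pr 1 v) := by
      have : (fun i => v i 0 + a * v i 1) = (fun i => v i 0) + a • fun i => v i 1 := rfl
      show ((b.equivFun.symm fun i => v i 0 + a * v i 1 : KS) : M) = _
      rw [this, map_add, map_smul]
      rfl
    have e1 : pr 1 (fun i => ![v i 0 + a * v i 1, v i 1]) = pr 1 v := rfl
    rw [e0, e1, map_add, D.uu_K a (hpr 0 v), D.uu_ww_K a (hpr 1 v)]
    abel
  have hww : (ww : SL(2, F)) ∈ S := fun v => by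
    have hv : (fun i => ((ww : SL(2, F)) : Matrix (Fin 2) (Fin 2) F).mulVec (v i)) =
        fun i => ![v i 1, v i 0] := by
      funext i j
      fin_cases j <;> simp [ww, Matrix.mulVec, dotProduct, Fin.sum_univ_two, neg_eq D.hF]
    rw [hv, hφ, hφ, map_add, D.ww_ww]
    have e0 : pr 0 (fun i => ![v i 1, v i 0]) = pr 1 v := rfl
    have e1 : pr 1 (fun i => ![v i 1, v i 0]) = pr 0 v := rfl
    rw [e0, e1, add_comm]
  have htop : S = ⊤ := eq_top_of_uu_ll huu fun t => by
    rw [ll_eq_conj D.hF]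
    exact S.mul_mem (S.mul_mem hww (huu t)) hww
  intro g
  exact (htop ▸ Subgroup.mem_top g : g ∈ S)

end Cfsg.Agent.HigmanSL2
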