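import Cfsg.Agent.Lib.HigmanSL2.Units
import Cfsg.Agent.Lib.PSL2.Basic

/-!
Higman's lemma in ring form: in characteristic 2, if `g² + g + 1 = 0` for the images of all trace-one
elements of `SL(2, F)`, then the representation is the natural one over a field acting by scalars.
-/

set_option autoImplicit false

namespace Cfsg.Agent.HigmanSL2

open Matrix Cfsg.Agent.PSL2
open scoped MatrixGroups

variable {F : Type*} [Field F] {R : Type*} [Ring R]

/-- Images of trace-one elements (the elements of order 3) satisfy `X² + X + 1 = 0`. -/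
def TraceOne (ρ : SL(2, F) →* R) : Prop :=
  ∀ g : SL(2, F), g 0 0 + g 1 1 = 1 → ρ g * ρ g + ρ g + 1 = 0

/-- `ρ(u 1) + 1` -/
def eEl (ρ : SL(2, F) →* R) : R := ρ (uu 1) + 1

/-- `ρ(l 1) + 1` -/
def fEl (ρ : SL(2, F) →* R) : R := ρ (ll 1) + 1

section

variable (hF : (2 : F) = 0)
include hF

theorem neg_eq (x : F) : -x = x := by linear_combination -x * hF

theorem uu_sq (a : F) : uu a * uu a = (1 : SL(2, F)) := by
  rw [uu_mul_uu, ← two_mul, hF, zero_mul, uu_zero]

theorem ll_sq (a : F) : ll a * ll a = (1 : SL(2, F)) := by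
  rw [ll_mul_ll, ← two_mul, hF, zero_mul, ll_zero]

theorem ww_eq : (ww : SL(2, F)) = uu 1 * ll 1 * uu 1 := by
  apply ext2 <;> simp only [mul00, mul01, mul10, mul11] <;> simp [neg_eq hF] <;>
    grind

theorem ww_sq : (ww : SL(2, F)) * ww = 1 := by
  apply ext2 <;> simp only [mul00, mul01, mul10, mul11] <;> simp [neg_eq hF]

theorem ll_eq_conj (a : F) : (ll a : SL(2, F)) = ww * uu a * ww := by
  apply ext2 <;> simp only [mul00, mul01, mul10, mul11] <;> simp [neg_eq hF]

theorem dd_eq (a : Fˣ) : dd a = uu (a : F) * ll ((a⁻¹ : Fˣ) : F) * uu (a : F) * ww := by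
  have h : (a : F) * ((a⁻¹ : Fˣ) : F) = 1 := a.mul_inv
  apply ext2 <;> simp only [mul00, mul01, mul10, mul11] <;> simp [neg_eq hF] <;> grind

end

variable {ρ : SL(2, F) →* R}

theorem pair_eq (hF : (2 : F) = 0) (hR : (2 : R) = 0) (hq : TraceOne ρ) {a b : F} (hab : a * b = 1) :
    (ρ (uu a) + 1) * (ρ (ll b) + 1) + (ρ (ll b) + 1) * (ρ (uu a) + 1) = 1 := by
  have htr : (uu a * ll b : SL(2, F)) 0 0 + (uu a * ll b : SL(2, F)) 1 1 = 1 := by
    simp only [mul00, mul11]; simp [hab]; linear_combination hF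
  have h := congrArg (ρ (ll b * uu a) * ·) (hq _ htr)
  simp only [mul_add, mul_zero, mul_one, ← mul_assoc, ← map_mul] at h
  have hinv : (ll b * uu a : SL(2, F)) * uu a * ll b = 1 := by
    rw [mul_assoc (ll b), uu_sq hF, mul_one, ll_sq hF]
  rw [hinv, one_mul, map_one, map_mul, map_mul] at h
  calc (ρ (uu a) + 1) * (ρ (ll b) + 1) + (ρ (ll b) + 1) * (ρ (uu a) + 1)
      = (ρ (uu a) * ρ (ll b) + 1 + ρ (ll b) * ρ (uu a)) + 2 * (ρ (uu a) + ρ (ll b)) + 1 := by
        noncomm_ring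
    _ = 1 := by rw [h, hR]; simp

theorem add_one_sq (hR : (2 : R) = 0) {g : SL(2, F)} (hg : g * g = 1) :
    (ρ g + 1) * (ρ g + 1) = 0 := by
  have : (ρ g + 1) * (ρ g + 1) = ρ (g * g) + 1 + 2 * ρ g := by rw [map_mul]; noncomm_ring
  rw [this, hg, map_one, hR, one_add_one_eq_two, hR, zero_mul, add_zero]

theorem unitPair (hF : (2 : F) = 0) (hR : (2 : R) = 0) (hq : TraceOne ρ) :
    UnitPair (eEl ρ) (fEl ρ) :=
  ⟨add_one_sq hR (uu_sq hF 1), add_one_sq hR (ll_sq hF 1), pair_eq hF hR hq (mul_one 1)⟩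

variable [Finite F]

theorem natural (hF : (2 : F) = 0) (hR : (2 : R) = 0) (hq : TraceOne ρ) :
    ∃ B : F →+* R, (∀ a, B a ∈ scal (eEl ρ) (fEl ρ)) ∧ ∀ a, ρ (uu a) = 1 + B a * eEl ρ := by
  have P := unitPair hF hR hq
  have hC : ∀ c : ↥(scal (eEl ρ) (fEl ρ)), c + c = 0 := fun c =>
    Subtype.ext (by rw [Subring.coe_add, ← two_mul, hR, zero_mul, ZeroMemClass.coe_zero])
  set Ψ := P.matEquiv with hΨ
  have hu1 : Ψ (ρ (uu 1)) = !![1, 1; 0, 1] := P.matEquiv_eq 1 1 0 1 (by
    rw [OneMemClass.coe_one, ZeroMemClass.coe_zero, one_mul, one_mul, zero_mul, one_mul, add_zero,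
      add_right_comm, P.one, eEl, add_left_comm, one_add_one_eq_two, hR, add_zero])
  have hl1 : Ψ (ρ (ll 1)) = !![1, 0; 1, 1] := P.matEquiv_eq 1 0 1 1 (by
    rw [OneMemClass.coe_one, ZeroMemClass.coe_zero, one_mul, zero_mul, one_mul, one_mul, add_zero,
      add_right_comm, P.one, fEl, add_left_comm, one_add_one_eq_two, hR, add_zero])
  have hw : Ψ (ρ ww) = !![0, 1; 1, 0] := by
    rw [ww_eq hF, map_mul, map_mul, map_mul, map_mul, hu1, hl1]
    simp [Matrix.mul_fin_two, hC]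
  let A : F → ↥(scal (eEl ρ) (fEl ρ)) := fun a => Ψ (ρ (uu a)) 0 0
  let B : F → ↥(scal (eEl ρ) (fEl ρ)) := fun a => Ψ (ρ (uu a)) 0 1
  have hu : ∀ a, Ψ (ρ (uu a)) = !![A a, B a; 0, A a] := fun a => by
    have hc : Ψ (ρ (uu 1)) * Ψ (ρ (uu a)) = Ψ (ρ (uu a)) * Ψ (ρ (uu 1)) := by
      rw [← map_mul, ← map_mul, ← map_mul, ← map_mul, uu_mul_uu, uu_mul_uu, add_comm]
    rw [hu1] at hc
    have h00 := congrFun (congrFun hc 0) 0
    have h01 := congrFun (congrFun hc 0) 1
    simp [Matrix.mul_apply, Fin.sum_univ_two] at h00 h01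
    rw [add_comm] at h01
    have h11 := add_right_cancel h01
    refine Matrix.ext fun i j => ?_
    fin_cases i <;> fin_cases j
    · rfl
    · rfl
    · simpa using h00
    · simpa [A] using h11
  have hl : ∀ a, Ψ (ρ (ll a)) = !![A a, 0; B a, A a] := fun a => by
    rw [ll_eq_conj hF, map_mul, map_mul, map_mul, map_mul, hw, hu]
    simp [Matrix.mul_fin_two]
  have hmul : ∀ a b, A (a + b) = A a * A b ∧ B (a + b) = A a * B b + B a * A b := fun a b => by
    have h : Ψ (ρ (uu a)) * Ψ (ρ (uu b)) = Ψ (ρ (uu (a + b))) := by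
      rw [← map_mul, ← map_mul, uu_mul_uu]
    rw [hu, hu, hu, Matrix.mul_fin_two] at h
    have h00 := congrFun (congrFun h 0) 0
    have h01 := congrFun (congrFun h 0) 1
    simp at h00 h01
    exact ⟨h00.symm, h01.symm⟩
  have hA0 : A 0 = 1 ∧ B 0 = 0 := by simp [A, B]
  have hA1 : A 1 = 1 ∧ B 1 = 1 := by simp [A, B, hu1]
  have hdouble : ∀ a : F, a + a = 0 := fun a => by rw [← two_mul, hF, zero_mul]
  have hAA : ∀ a, A a * A a = 1 := fun a => by rw [← (hmul a a).1, hdouble, hA0.1]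
  have hAB : ∀ a, A a * B a = B a * A a := fun a => by
    have h := (hmul a a).2
    rw [hdouble, hA0.2] at h
    exact add_right_cancel (h.symm.trans (hC (B a * A a)).symm)
  have hAc : ∀ a b, A a * A b = A b * A a := fun a b => by rw [← (hmul a b).1, ← (hmul b a).1, add_comm]
  have hBB : ∀ {a b : F}, a * b = 1 → B a * B b = 1 ∧ B b * B a = 1 := by
    intro a b hab
    have h := congrArg Ψ (pair_eq hF hR hq hab)
    simp only [map_add, map_mul, map_one, hu, hl, Matrix.one_fin_two] at h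
    simp [Matrix.mul_fin_two] at h
    obtain ⟨⟨h00, -⟩, -, h11⟩ := h
    have e : (A a + 1) * (A b + 1) = (A b + 1) * (A a + 1) := by
      simp only [mul_add, add_mul, mul_one, one_mul, hAc a b]; abel
    have k := hC ((A b + 1) * (A a + 1))
    constructor
    · rw [e] at h00
      calc B a * B b = B a * B b + ((A b + 1) * (A a + 1) + (A b + 1) * (A a + 1)) := by
            rw [k, add_zero]
        _ = (A b + 1) * (A a + 1) + B a * B b + (A b + 1) * (A a + 1) := by abel
        _ = 1 := h00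
    · rw [e] at h11
      calc B b * B a = B b * B a + ((A b + 1) * (A a + 1) + (A b + 1) * (A a + 1)) := by
            rw [k, add_zero]
        _ = (A b + 1) * (A a + 1) + (B b * B a + (A b + 1) * (A a + 1)) := by abel
        _ = 1 := h11
  have hd : ∀ a : Fˣ, Ψ (ρ (dd a)) = !![B a, A a + A ((a⁻¹ : Fˣ) : F);
      A a + A ((a⁻¹ : Fˣ) : F), B ((a⁻¹ : Fˣ) : F)] := fun a => by
    set b : F := ((a⁻¹ : Fˣ) : F) with hb
    have hab : (a : F) * b = 1 := a.mul_inv
    have hp := pair_eq hF hR hq hab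
    have hU := add_one_sq (ρ := ρ) hR (uu_sq hF (a : F))
    set U := ρ (uu (a : F)) + 1 with hUdef
    set L := ρ (ll b) + 1 with hLdef
    have e1 : ρ (uu (a : F)) = U + 1 := by rw [hUdef, add_assoc, one_add_one_eq_two, hR, add_zero]
    have e2 : ρ (ll b) = L + 1 := by rw [hLdef, add_assoc, one_add_one_eq_two, hR, add_zero]
    have hlu : L * U = 1 + U * L := by
      calc L * U = (U * L + L * U) + U * L - 2 * (U * L) := by noncomm_ring
        _ = 1 + U * L := by rw [hp, hR]; simp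
    have hW : ρ (uu (a : F)) * ρ (ll b) * ρ (uu (a : F)) = ρ (uu (a : F)) + ρ (ll b) := by
      rw [e1, e2]
      calc (U + 1) * (L + 1) * (U + 1) = U * (L * U) + U * U + (U * L + L * U) + 2 * U + L + 1 := by
            noncomm_ring
        _ = U + 1 + (L + 1) := by
            rw [hp, hU, hR, hlu, mul_add, ← mul_assoc, hU]; simp; abel
    rw [dd_eq hF, ← hb, map_mul ρ, map_mul ρ, map_mul ρ, hW, map_mul, map_add, hu, hl, hw]
    simp [Matrix.mul_fin_two]
  have hsq : ∀ a, B (a ^ 2) = B a * B a ∧ A (a ^ 2) * A (a ^ 2) = 1 := fun a => by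
    refine ⟨?_, hAA _⟩
    rcases eq_or_ne a 0 with rfl | ha
    · simp [hA0.2]
    obtain ⟨u, rfl⟩ : ∃ u : Fˣ, (u : F) = a := ⟨Units.mk0 a ha, rfl⟩
    have hc : dd u * uu 1 = uu ((u : F) ^ 2) * dd u := by
      rw [← mul_inv_eq_iff_eq_mul, dd_conj_uu, mul_one]
    have h := congrArg (fun g => Ψ (ρ g)) hc
    simp only [map_mul, hd, hu1, hu, Matrix.mul_fin_two] at h
    have h10 := congrFun (congrFun h 1) 0
    have h01 := congrFun (congrFun h 0) 1
    simp [-Units.val_inv_eq_inv_val] at h10 h01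
    rw [← h10, add_comm (B (u : F)), add_right_inj] at h01
    calc B ((u : F) ^ 2) = B ((u : F) ^ 2) * (B ((u⁻¹ : Fˣ) : F) * B (u : F)) := by
          rw [(hBB u.inv_mul).1, mul_one]
      _ = B (u : F) * B (u : F) := by rw [← mul_assoc, ← h01]
  haveI : Fact (Nat.Prime 2) := ⟨Nat.prime_two⟩
  haveI : CharP F 2 := CharTwo.of_one_ne_zero_of_two_eq_zero one_ne_zero hF
  haveI := Fintype.ofFinite F
  have hroot : ∀ x : F, ∃ a, a ^ 2 = x := fun x => by
    obtain ⟨r, hr⟩ := FiniteField.isSquare_of_char_two (ringChar.eq F 2) x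
    exact ⟨r, by rw [hr, sq]⟩
  have hA : ∀ x, A x = 1 := fun x => by
    obtain ⟨a, rfl⟩ := hroot x
    have h1 := (hsq (a + 1)).1
    rw [show (a + 1) ^ 2 = a ^ 2 + 1 by linear_combination a * hF, (hmul _ _).2, (hmul a 1).2,
      hA1.1, hA1.2, mul_one, mul_one, (hsq a).1] at h1
    have h2 : (A a + B a) * (A a + B a) = 1 + B a * B a + (A a * B a + B a * A a) := by
      rw [mul_add, add_mul, add_mul, hAA]; abel
    simp only [mul_one] at h1
    rw [h2, hAB a, hC, add_zero] at h1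
    exact add_right_cancel h1
  have hadd : ∀ a b, B (a + b) = B a + B b := fun a b => by
    rw [(hmul a b).2, hA, hA, one_mul, mul_one, add_comm]
  have hconj : ∀ a b, B (a ^ 2 * b) = B a * B b * B a := fun a b => by
    rcases eq_or_ne a 0 with rfl | ha
    · simp [hA0.2]
    obtain ⟨u, rfl⟩ : ∃ u : Fˣ, (u : F) = a := ⟨Units.mk0 a ha, rfl⟩
    have hc : dd u * uu b = uu ((u : F) ^ 2 * b) * dd u := by
      rw [← mul_inv_eq_iff_eq_mul, dd_conj_uu]
    have h := congrArg (fun g => Ψ (ρ g)) hc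
    simp only [map_mul, hd, hu, hA, hC, Matrix.mul_fin_two] at h
    have h01 := congrFun (congrFun h 0) 1
    simp [-Units.val_inv_eq_inv_val] at h01
    rw [h01, mul_assoc, (hBB u.inv_mul).1, mul_one]
  have hcomm : ∀ a c, B a * B c = B c * B a := fun a c => by
    have h := hconj (a + c) 1
    rw [show (a + c) ^ 2 * 1 = a ^ 2 + c ^ 2 by linear_combination a * c * hF, hadd, (hsq a).1,
      (hsq c).1, hA1.2, mul_one, hadd, mul_add, add_mul, add_mul] at h
    have h' : B a * B a + B c * B c + (B c * B a + B a * B c) = B a * B a + B c * B c + 0 := by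
      rw [add_zero]; conv_rhs => rw [h]
      abel
    exact add_left_cancel ((add_left_cancel h').trans (hC (B c * B a)).symm)
  have hmulB : ∀ x y, B (x * y) = B x * B y := fun x y => by
    obtain ⟨a, rfl⟩ := hroot x
    rw [hconj, (hsq a).1, mul_assoc, hcomm y a, ← mul_assoc]
  let Bh : F →+* ↥(scal (eEl ρ) (fEl ρ)) :=
    { toFun := B
      map_one' := hA1.2
      map_mul' := hmulB
      map_zero' := hA0.2
      map_add' := hadd }
  refine ⟨(scal (eEl ρ) (fEl ρ)).subtype.comp Bh, fun a => (B a).2, fun a => ?_⟩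
  apply Ψ.injective
  rw [map_add, map_one, map_mul, hu, hA]
  show _ = 1 + Ψ ((B a : R)) * Ψ (eEl ρ)
  rw [hΨ, P.matEquiv_scal, P.matEquiv_e, Matrix.one_fin_two]
  simp [Matrix.mul_fin_two]

end Cfsg.Agent.HigmanSL2
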