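import Mathlib

/-!
A ring containing `e, f` with `e² = f² = 0`, `ef + fe = 1` is the ring of 2×2 matrices over their
centralizer.
-/

set_option autoImplicit false

namespace Cfsg.Agent.HigmanSL2

variable {R : Type*} [Ring R]

/-- `e, f` form a system of 2×2 matrix units. -/
structure UnitPair (e f : R) : Prop where
  ee : e * e = 0
  ff : f * f = 0
  one : e * f + f * e = 1

/-- The matrix units: `E 0 1 = e`, `E 1 0 = f`. -/
def mu (e f : R) (i j : Fin 2) : R :=
  if i = 0 then (if j = 0 then e * f else e) else (if j = 0 then f else f * e)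

@[simp] theorem mu00 (e f : R) : mu e f 0 0 = e * f := rfl
@[simp] theorem mu01 (e f : R) : mu e f 0 1 = e := rfl
@[simp] theorem mu10 (e f : R) : mu e f 1 0 = f := rfl
@[simp] theorem mu11 (e f : R) : mu e f 1 1 = f * e := rfl

namespace UnitPair

variable {e f : R}

theorem efe (h : UnitPair e f) : e * f * e = e := by
  have := congrArg (· * e) h.one
  simpa [add_mul, mul_assoc, h.ee] using this

theorem fef (h : UnitPair e f) : f * e * f = f := by
  have := congrArg (f * ·) h.one
  simpa [mul_add, ← mul_assoc, h.ff] using this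

theorem mu_mul (h : UnitPair e f) (i j k l : Fin 2) :
    mu e f i j * mu e f k l = if j = k then mu e f i l else 0 := by
  have h1 := h.efe
  have h2 := h.fef
  rw [mul_assoc] at h1 h2
  have h3 : ∀ x, e * (e * x) = 0 := fun x => by rw [← mul_assoc, h.ee, zero_mul]
  have h4 : ∀ x, f * (f * x) = 0 := fun x => by rw [← mul_assoc, h.ff, zero_mul]
  have h5 : ∀ x, e * (f * (e * x)) = e * x := fun x => by rw [← mul_assoc f, ← mul_assoc, h1]
  have h6 : ∀ x, f * (e * (f * x)) = f * x := fun x => by rw [← mul_assoc e, ← mul_assoc, h2]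
  fin_cases i <;> fin_cases j <;> fin_cases k <;> fin_cases l <;>
    simp [mu, mul_assoc, h1, h2, h3, h4, h5, h6, h.ee, h.ff]

theorem mu_sum (h : UnitPair e f) : ∑ k, mu e f k k = 1 := by
  rw [Fin.sum_univ_two, mu00, mu11, h.one]

end UnitPair

/-- The centralizer of the matrix units. -/
def scal (e f : R) : Subring R := Subring.centralizer {e, f}

theorem mem_scal {e f x : R} : x ∈ scal e f ↔ e * x = x * e ∧ f * x = x * f := by
  simp [scal, Subring.mem_centralizer_iff]

theorem mu_comm {e f x : R} (hx : x ∈ scal e f) (i j : Fin 2) : mu e f i j * x = x * mu e f i j := by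
  obtain ⟨h1, h2⟩ := mem_scal.1 hx
  fin_cases i <;> fin_cases j <;> simp only [mu, Fin.zero_eta, Fin.mk_one, if_true, Fin.isValue,
    one_ne_zero, if_false]
  · rw [mul_assoc, h2, ← mul_assoc, h1, mul_assoc]
  · exact h1
  · exact h2
  · rw [mul_assoc, h1, ← mul_assoc, h2, mul_assoc]

namespace UnitPair

variable {e f : R}

/-- The coefficient of `r` at `E i j`. -/
def coef (e f : R) (r : R) (i j : Fin 2) : R := ∑ k, mu e f k i * r * mu e f j k

theorem coef_mem (h : UnitPair e f) (r : R) (i j : Fin 2) : coef e f r i j ∈ scal e f := by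
  have key : ∀ a b, mu e f a b * coef e f r i j = coef e f r i j * mu e f a b := by
    intro a b
    have hL : mu e f a b * coef e f r i j = mu e f a i * r * mu e f j b := by
      rw [coef, Finset.mul_sum, Finset.sum_eq_single b
        (fun k _ hk => by rw [← mul_assoc, ← mul_assoc, h.mu_mul, if_neg (Ne.symm hk), zero_mul, zero_mul])
        (fun hb => absurd (Finset.mem_univ b) hb), ← mul_assoc, ← mul_assoc, h.mu_mul, if_pos rfl]
    have hR : coef e f r i j * mu e f a b = mu e f a i * r * mu e f j b := by
      rw [coef, Finset.sum_mul, Finset.sum_eq_single a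
        (fun k _ hk => by rw [mul_assoc, h.mu_mul, if_neg hk, mul_zero])
        (fun hb => absurd (Finset.mem_univ a) hb), mul_assoc, h.mu_mul, if_pos rfl]
    rw [hL, hR]
  exact mem_scal.2 ⟨key 0 1, key 1 0⟩

theorem sum_coef (h : UnitPair e f) (r : R) : ∑ i, ∑ j, coef e f r i j * mu e f i j = r := by
  have : ∀ i j, coef e f r i j * mu e f i j = mu e f i i * r * mu e f j j := fun i j => by
    rw [coef, Finset.sum_mul, Finset.sum_eq_single i
      (fun k _ hk => by rw [mul_assoc, h.mu_mul, if_neg hk, mul_zero])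
      (fun hb => absurd (Finset.mem_univ i) hb), mul_assoc, h.mu_mul, if_pos rfl]
  simp only [this, ← Finset.mul_sum, ← Finset.sum_mul, h.mu_sum, one_mul, mul_one]

theorem coef_mul (h : UnitPair e f) (r s : R) (i j : Fin 2) :
    coef e f (r * s) i j = ∑ k, coef e f r i k * coef e f s k j := by
  have : ∀ k, coef e f r i k * coef e f s k j = ∑ l, mu e f l i * r * mu e f k k * s * mu e f j l :=
    fun k => by
    rw [coef, coef, Finset.sum_mul]
    refine Finset.sum_congr rfl fun l _ => ?_
    rw [Finset.mul_sum, Finset.sum_eq_single l (fun m _ hm => ?_)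
      (fun hb => absurd (Finset.mem_univ l) hb)]
    · rw [show mu e f l i * r * mu e f k l * (mu e f l k * s * mu e f j l) =
        mu e f l i * r * (mu e f k l * mu e f l k) * s * mu e f j l by simp [mul_assoc],
        h.mu_mul, if_pos rfl]
    · rw [show mu e f l i * r * mu e f k l * (mu e f m k * s * mu e f j m) =
        mu e f l i * r * (mu e f k l * mu e f m k) * s * mu e f j m by simp [mul_assoc],
        h.mu_mul, if_neg (Ne.symm hm)]
      simp
  simp only [this]
  rw [Finset.sum_comm]
  refine Finset.sum_congr rfl fun l _ => ?_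
  simp only [← Finset.sum_mul, ← Finset.mul_sum, h.mu_sum, mul_one]
  simp [mul_assoc]

theorem coef_sum (h : UnitPair e f) (M : Fin 2 → Fin 2 → R) (hM : ∀ i j, M i j ∈ scal e f)
    (i j : Fin 2) : coef e f (∑ a, ∑ b, M a b * mu e f a b) i j = M i j := by
  have hterm : ∀ k a b, mu e f k i * (M a b * mu e f a b) * mu e f j k =
      if a = i ∧ b = j then M a b * mu e f k k else 0 := by
    intro k a b
    rw [← mul_assoc, mu_comm (hM a b), mul_assoc (M a b), mul_assoc, h.mu_mul]
    by_cases ha : a = i
    · subst ha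
      rw [if_pos rfl, h.mu_mul]
      by_cases hb : b = j <;> simp [hb]
    · rw [if_neg (Ne.symm ha)]
      simp [ha]
  simp only [coef, Finset.mul_sum, Finset.sum_mul, hterm]
  rw [Finset.sum_congr rfl fun k _ => Finset.sum_eq_single i (fun a _ ha => Finset.sum_eq_zero
    fun b _ => by simp [ha]) (fun hb => absurd (Finset.mem_univ i) hb)]
  rw [Finset.sum_congr rfl fun k _ => Finset.sum_eq_single j (fun b _ hb => by simp [hb])
    (fun hb => absurd (Finset.mem_univ j) hb)]
  simp [← Finset.mul_sum, h.mu_sum]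

/-- `R` as matrices over the centralizer. -/
def matEquiv (h : UnitPair e f) : R ≃+* Matrix (Fin 2) (Fin 2) ↥(scal e f) where
  toFun r := Matrix.of fun i j => ⟨coef e f r i j, h.coef_mem r i j⟩
  invFun M := ∑ i, ∑ j, (M i j : R) * mu e f i j
  left_inv r := h.sum_coef r
  right_inv M := by
    ext i j
    exact h.coef_sum (fun a b => (M a b : R)) (fun a b => (M a b).2) i j
  map_mul' r s := by
    ext i j
    simp only [Matrix.mul_apply, Matrix.of_apply, AddSubmonoidClass.coe_finset_sum]
    exact h.coef_mul r s i j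
  map_add' r s := by
    ext i j
    simp only [Matrix.add_apply, Matrix.of_apply, Subring.coe_add, coef, mul_add, add_mul,
      Finset.sum_add_distrib]

theorem matEquiv_apply (h : UnitPair e f) (r : R) (i j : Fin 2) :
    ((h.matEquiv r i j : ↥(scal e f)) : R) = coef e f r i j := rfl

theorem matEquiv_symm_apply (h : UnitPair e f) (M : Matrix (Fin 2) (Fin 2) ↥(scal e f)) :
    h.matEquiv.symm M = (M 0 0 : R) * (e * f) + (M 0 1 : R) * e + (M 1 0 : R) * f +
      (M 1 1 : R) * (f * e) := by
  show ∑ i, ∑ j, (M i j : R) * mu e f i j = _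
  simp [Fin.sum_univ_two, add_assoc]

theorem matEquiv_eq (h : UnitPair e f) {r : R} (a b c d : ↥(scal e f))
    (hr : r = (a : R) * (e * f) + (b : R) * e + (c : R) * f + (d : R) * (f * e)) :
    h.matEquiv r = !![a, b; c, d] := by
  apply h.matEquiv.symm.injective
  rw [RingEquiv.symm_apply_apply, matEquiv_symm_apply, hr]
  simp

theorem matEquiv_e (h : UnitPair e f) : h.matEquiv e = !![0, 1; 0, 0] :=
  h.matEquiv_eq 0 1 0 0 (by simp)

theorem matEquiv_f (h : UnitPair e f) : h.matEquiv f = !![0, 0; 1, 0] :=
  h.matEquiv_eq 0 0 1 0 (by simp)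

theorem matEquiv_scal (h : UnitPair e f) (c : ↥(scal e f)) : h.matEquiv (c : R) = !![c, 0; 0, c] :=
  h.matEquiv_eq c 0 0 c (by rw [ZeroMemClass.coe_zero]; simp [← mul_add, h.one])

end UnitPair

end Cfsg.Agent.HigmanSL2
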